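import Cfsg.Agent.Lib.Helper40.CoxeterEnum
import Cfsg.Prelude.Def_ChevStructure

/-! Certificate data for the Coxeter group of type D4 (generated). -/

set_option autoImplicit false

namespace Cfsg.Agent.Lib.Helper40.D4

/-- action of the simple reflections on the roots, one packed row per reflection -/
def tab : List ℕ := [
  0x1711100f0e05161514130d0c0b0a04030201120908070600,
  0x161715141213110d0c09100f08070e0b0a06040503020001,
  0x1714131615120f0e11100a0c0b0d07060908050201040300,
  0x17151613141210110e0f0d0b0c0a08090607050304010200]

/-- the negation map on roots (packed) -/
def negT : ℕ :=
  0x102030405060708090a0b0c0d0e0f1011121314151617

/-- level 0 of the stabiliser chain -/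
def lev0 : Level where
  I := [0, 1, 2, 3]
  J := [0, 2, 3]
  b := 23
  O := [
    23, 22, 17, 20, 21, 15, 16, 19, 12, 14, 13, 18, 11, 9, 10, 5, 8, 4, 7, 3, 6, 2, 1, 0]
  gen := 0x13231032311321122000221
  par := 0x17161614131611110f100f0c0d0e0b0908120908040301
  dep := 0x102020304020303040404050505060607050607070809
  rank := 0x6000500040000000000000000000000000003000200000000000000000000000b0000000a0000000000000000001300120000000000000000000000000000000000010000000000000000000000000009000000080000000000000000000000000000000700000000000000000000000f0000000e0000000000000000001100000000001000000000000000000000000d0000000c0000000000000000000000150000001400000000000000000019000000180017000000000000000000160000000000000000000000000000001d00000000000000000000000000000022000000210020000000000000000000270000002600250000000000000000001c001b001a00000000000000000000001f0000001e0000000000000000000000240000002300000000000000000000002a0000002900280000000000000000002c00000000002b0000000000000000002f002e0000002d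
  partner := 0x333000000220000020300001100000000000000030000000000000002000000100100000101000003030000202200001000000030000000201200003022000000000000001000003000000020000000300000001101

/-- level 1 of the stabiliser chain -/
def lev1 : Level where
  I := [0, 2, 3]
  J := [0, 2]
  b := 12
  O := [
    12, 11]
  gen := 0x300000000000
  par := 0xc0000000000000000000000
  dep := 0x10000000000000000000000
  rank := 0x2000000010000000000000000000000000000000000000000000000000000000000000000000000000000000000000000000000000000000000000000000000000000000000000000000000000000000000000000000000000000000000000000000000000000000000000000000000000000000000000000000000000000000000000000000000000000000000000000000000000000000000000000000000000000000000000000000000000000000000000000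
  partner := 0x3030000000000000000000000000000000000000000000000000000000000000000000000000000000000000000

/-- level 2 of the stabiliser chain -/
def lev2 : Level where
  I := [0, 2]
  J := [0]
  b := 13
  O := [
    13, 10]
  gen := 0x20000000000
  par := 0xd00000000000000000000
  dep := 0x100000000000000000000
  rank := 0x100000000000000000000000000000000000000000000000000000000000000000000000000000000000000000000000000000000000000000000000000000000000000000000000000000000000000000000000000000000000000000000000000000000000000000000000000000000000000000000000000000000000000000000000000000000000000000000000000000000000000000000000000000000
  partner := 0x200000000000000000000000000000000000000000000000000000000000000000000000000000000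

/-- level 3 of the stabiliser chain -/
def lev3 : Level where
  I := [0]
  J := []
  b := 22
  O := [
    22, 17]
  gen := 0x0
  par := 0x160000000000000000000000000000000000
  dep := 0x10000000000000000000000000000000000
  rank := 0x0
  partner := 0x0

/-- the stabiliser chain -/
def levels : List Level := [lev0, lev1, lev2, lev3]

theorem tab_ok : tabOK Cfsg.Lie.coxeterD4 24 tab = true := by decide +kernel

theorem chain_ok :
    chainOK (actT 4 24 tab) (mN Cfsg.Lie.coxeterD4) levels (List.range 4) = true := by
  decide +kernel

end Cfsg.Agent.Lib.Helper40.D4
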