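/-
helper40: verified Todd–Coxeter certificates for groups generated by involutions.

A certificate is a static trace of a coset enumeration: nodes `0..M-1` (the first `N` are the
"canonical" cosets, the others are temporary cosets which are later identified with smaller nodes),
every node is defined by a tree edge, every table entry ("edge fact") and every identification
("coincidence fact") carries a rank and a justification which uses only facts of smaller rank.
-/
import Mathlib

set_option autoImplicit false

namespace Cfsg.Agent.Lib.Helper40.PE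

/-! ### kernel friendly primitives -/

/-- binary trees, indexed by the binary digits of the index, lowest digit first -/
inductive BT (α : Type) where
  | leaf (v : α) : BT α
  | node (l r : BT α) : BT α

noncomputable def BT.get {α : Type} (t : BT α) : ℕ → α :=
  BT.rec (motive := fun _ => ℕ → α) (fun v _ => v)
    (fun _ _ gl gr i => Bool.rec (gl (Nat.div i 2)) (gr (Nat.div i 2)) (Nat.beq (Nat.land i 1) 1)) t

def BT.All {α : Type} (P : α → Prop) : BT α → Prop
  | .leaf v => P v
  | .node l r => l.All P ∧ r.All P

theorem BT.get_all {α : Type} {P : α → Prop} : ∀ (t : BT α), t.All P → ∀ i, P (t.get i)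
  | .leaf _, h, _ => h
  | .node l r, h, i => by
      show P (Bool.rec (l.get (Nat.div i 2)) (r.get (Nat.div i 2)) (Nat.beq (Nat.land i 1) 1))
      cases (Nat.beq (Nat.land i 1) 1)
      · exact BT.get_all l h.1 _
      · exact BT.get_all r h.2 _

noncomputable def BT.all {α : Type} (p : α → Bool) (t : BT α) : Bool :=
  BT.rec (motive := fun _ => Bool) (fun v => p v) (fun _ _ a b => Bool.rec false b a) t

theorem BT.all_iff {α : Type} {p : α → Bool} : ∀ (t : BT α), t.all p = true → t.All (fun v => p v = true)
  | .leaf _, h => h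
  | .node l r, h => by
      have h' : (Bool.rec false (r.all p) (l.all p) : Bool) = true := h
      cases hl : l.all p
      · rw [hl] at h'; exact absurd h' (by simp)
      · rw [hl] at h'; exact ⟨BT.all_iff l hl, BT.all_iff r h'⟩

/-- evaluate `x` first, then continue -/
noncomputable def force {α : Type} (x : ℕ) (f : ℕ → α) : α :=
  Nat.rec (f 0) (fun n _ => f (Nat.succ n)) x

@[simp] theorem force_eq {α : Type} (x : ℕ) (f : ℕ → α) : force x f = f x := by
  cases x <;> rfl

noncomputable def bsel {α : Type} (b : Bool) (x y : α) : α := Bool.rec y x b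

@[simp] theorem bsel_true {α : Type} (x y : α) : bsel true x y = x := rfl
@[simp] theorem bsel_false {α : Type} (x y : α) : bsel false x y = y := rfl

noncomputable def allB (p : ℕ → Bool) (n : ℕ) : Bool :=
  Nat.rec true (fun i ih => Bool.rec false ih (p i)) n

theorem allB_iff {p : ℕ → Bool} {n : ℕ} : allB p n = true ↔ ∀ i < n, p i = true := by
  induction n with
  | zero => simp [allB]
  | succ n ih =>
    have : allB p (n + 1) = Bool.rec false (allB p n) (p n) := rfl
    rw [this]
    constructor
    · intro h i hi
      cases hp : p n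
      · rw [hp] at h; exact absurd h (by simp)
      · rw [hp] at h
        rcases Nat.lt_succ_iff_lt_or_eq.mp hi with h1 | h1
        · exact ih.mp h i h1
        · rw [h1]; exact hp
    · intro h
      rw [h n (Nat.lt_succ_self n)]
      exact ih.mpr fun i hi => h i (Nat.lt_succ_of_lt hi)

theorem allB_extend {p : ℕ → Bool} {lo len : ℕ} (h1 : ∀ u < lo, p u = true)
    (h2 : allB (fun i => p (Nat.add lo i)) len = true) : ∀ u < lo + len, p u = true := by
  intro u hu
  by_cases h : u < lo
  · exact h1 u h
  · have h3 := allB_iff.mp h2 (u - lo) (by omega)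
    have e : Nat.add lo (u - lo) = u := by show lo + (u - lo) = u; omega
    simp only [e] at h3
    exact h3

theorem allB_base {p : ℕ → Bool} : ∀ u < 0, p u = true := fun _ h => absurd h (Nat.not_lt_zero _)

/-- `a < b` as a kernel friendly boolean -/
noncomputable def ltB (a b : ℕ) : Bool := Nat.ble (Nat.succ a) b

@[simp] theorem ltB_iff {a b : ℕ} : ltB a b = true ↔ a < b := by
  simp [ltB]

theorem ltB_false {a b : ℕ} : ltB a b = false ↔ ¬ a < b := by
  rw [← ltB_iff]; cases ltB a b <;> simp

@[simp] theorem beq_iff' {a b : ℕ} : Nat.beq a b = true ↔ a = b := by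
  simp [Nat.beq_eq]

noncomputable def andB (a b : Bool) : Bool := Bool.rec false b a

@[simp] theorem andB_iff {a b : Bool} : andB a b = true ↔ a = true ∧ b = true := by
  cases a <;> cases b <;> simp [andB]

noncomputable def orB (a b : Bool) : Bool := Bool.rec b true a

@[simp] theorem orB_iff {a b : Bool} : orB a b = true ↔ a = true ∨ b = true := by
  cases a <;> cases b <;> simp [orB]


/-! ### certificates -/

/-- A static coset enumeration certificate.  All data of node `u` is packed in the number
`T.get u`. -/
structure Cert where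
  N : ℕ
  M : ℕ
  A : ℕ
  tb : ℕ
  mT : ℕ
  W : ℕ
  mW : ℕ
  RM : ℕ
  oJ : ℕ
  WJ : ℕ
  mJ : ℕ
  oP : ℕ
  oG : ℕ
  oC : ℕ
  oK : ℕ
  T : BT ℕ
  R : ℕ → List ℕ
  S : ℕ → List ℕ × ℕ × List ℕ

namespace Cert

variable (c : Cert)

noncomputable def ent (u k : ℕ) : ℕ := Nat.land (Nat.shiftRight (c.T.get u) (Nat.mul c.W k)) c.mW
noncomputable def tg (e : ℕ) : ℕ := Nat.land e c.mT
noncomputable def rk (e : ℕ) : ℕ := Nat.shiftRight e c.tb
noncomputable def jst (u k : ℕ) : ℕ :=
  Nat.land (Nat.shiftRight (c.T.get u) (Nat.add c.oJ (Nat.mul c.WJ k))) c.mJ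
noncomputable def dfP (v : ℕ) : ℕ := Nat.land (Nat.shiftRight (c.T.get v) c.oP) c.mT
noncomputable def dfG (v : ℕ) : ℕ := Nat.land (Nat.shiftRight (c.T.get v) c.oG) 15
noncomputable def cen (z : ℕ) : ℕ := Nat.land (Nat.shiftRight (c.T.get z) c.oC) c.mW
noncomputable def cjs (z : ℕ) : ℕ := Nat.land (Nat.shiftRight (c.T.get z) c.oK) c.mJ

/-- follow the coincidences of rank `< r` -/
noncomputable def collapse (r : ℕ) (fuel : ℕ) : ℕ → ℕ :=
  Nat.rec (motive := fun _ => ℕ → ℕ) (fun v => v)
    (fun _ ih v => bsel (ltB v c.N) v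
      (force (c.cen v) fun e => bsel (ltB (c.rk e) r) (force (c.tg e) ih) v)) fuel

theorem collapse_zero (r v : ℕ) : c.collapse r 0 v = v := rfl

theorem collapse_succ (r f v : ℕ) : c.collapse r (f + 1) v =
    if v < c.N then v else if c.rk (c.cen v) < r then c.collapse r f (c.tg (c.cen v)) else v := by
  have : c.collapse r (f + 1) v = bsel (ltB v c.N) v
      (force (c.cen v) fun e => bsel (ltB (c.rk e) r) (force (c.tg e) (c.collapse r f)) v) := rfl
  rw [this]
  by_cases h1 : v < c.N
  · rw [ltB_iff.mpr h1]; simp [h1]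
  · rw [ltB_false.mpr h1]
    by_cases h2 : c.rk (c.cen v) < r
    · simp [h1, h2, ltB_iff.mpr h2]
    · simp [h1, h2, ltB_false.mpr h2]

/-- walk along a word using only facts of rank `< r`; the value `M` signals failure -/
noncomputable def walk (r : ℕ) (w : List ℕ) : ℕ → ℕ :=
  List.rec (motive := fun _ => ℕ → ℕ) (fun u => u)
    (fun k _ ih u => bsel (ltB k c.A)
      (force (c.ent u k) fun e => bsel (ltB (c.rk e) r) (force (c.collapse r 4 (c.tg e)) ih) c.M)
      c.M) w

theorem walk_nil (r u : ℕ) : c.walk r [] u = u := rfl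

theorem walk_cons (r k : ℕ) (w : List ℕ) (u : ℕ) : c.walk r (k :: w) u =
    if k < c.A ∧ c.rk (c.ent u k) < r then c.walk r w (c.collapse r 4 (c.tg (c.ent u k))) else c.M := by
  have : c.walk r (k :: w) u = bsel (ltB k c.A)
      (force (c.ent u k) fun e => bsel (ltB (c.rk e) r)
        (force (c.collapse r 4 (c.tg e)) (c.walk r w)) c.M) c.M := rfl
  rw [this]
  by_cases h1 : k < c.A
  · rw [ltB_iff.mpr h1]
    by_cases h2 : c.rk (c.ent u k) < r
    · simp [h1, h2, ltB_iff.mpr h2]
    · simp [h2, ltB_false.mpr h2]
  · rw [ltB_false.mpr h1]; simp [h1]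

/-- check of the relator rule -/
noncomputable def relOK (r k u v : ℕ) (ρ : List ℕ) : Bool :=
  List.rec (motive := fun _ => Bool) false
    (fun k' w _ => andB (Nat.beq k' k) (Nat.beq (c.walk r w v) u)) ρ

/-- check of one edge fact -/
noncomputable def edgeOK (u k : ℕ) : Bool :=
  force (c.ent u k) fun e => force (c.rk e) fun r => force (c.tg e) fun v =>
    bsel (Nat.beq r c.RM) (Nat.ble c.N u)
      (andB (ltB v c.M) (force (c.jst u k) fun j => force (Nat.shiftRight j 2) fun p =>
        force (Nat.land j 3) fun kind =>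
        bsel (Nat.beq kind 0) (andB (Nat.beq (c.dfP v) u) (andB (Nat.beq (c.dfG v) k) (ltB u v)))
        (bsel (Nat.beq kind 1) (c.relOK r k u v (c.R p))
        (bsel (Nat.beq kind 2)
          (andB (Nat.beq (c.S p).2.1 k)
            (andB (Nat.beq (c.walk r (c.S p).1 0) u) (Nat.beq (c.walk r (c.S p).2.2 v) 0)))
          (andB (ltB p c.M) (andB (Nat.beq (c.collapse r 4 p) u) (Nat.beq (c.walk r [k] p) v)))))))

/-- check of one coincidence fact -/
noncomputable def coinOK (z : ℕ) : Bool :=
  force (c.cen z) fun e => force (c.rk e) fun r => force (c.tg e) fun y =>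
    bsel (Nat.beq r c.RM) true
      (andB (ltB y c.M) (force (c.cjs z) fun j => force (Nat.shiftRight j 1) fun p =>
        bsel (Nat.beq (Nat.land j 1) 0) (Nat.beq (c.walk r (c.R p) z) y)
          (force (Nat.shiftRight p 4) fun q => force (Nat.land p 15) fun k =>
            andB (ltB q c.M) (andB (Nat.ble c.N q) (andB (ltB (c.rk (c.cen q)) r)
              (force (c.walk r [k] q) fun e1 => force (c.walk r [k] (c.tg (c.cen q))) fun e2 =>
                orB (andB (Nat.beq e1 z) (Nat.beq e2 y)) (andB (Nat.beq e1 y) (Nat.beq e2 z))))))))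

/-- the canonical rows are complete and resolve to canonical nodes -/
noncomputable def resOK (u k : ℕ) : Bool :=
  force (c.ent u k) fun e =>
    andB (ltB (c.rk e) c.RM) (ltB (c.collapse c.RM 4 (c.tg e)) c.N)

/-- all checks concerning node `u` -/
noncomputable def nodeOK (u : ℕ) : Bool :=
  andB (allB (fun k => c.edgeOK u k) c.A)
    (bsel (ltB u c.N) (allB (fun k => c.resOK u k) c.A) (c.coinOK u))


/-! ### soundness -/

section Sound

variable {X : Type*} (a : ℕ → X → X) (x0 : X)

end Sound

end Cert

/-- apply a word, first letter first -/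
def appL {X : Type*} (a : ℕ → X → X) : List ℕ → X → X
  | [], x => x
  | k :: w, x => appL a w (a k x)

theorem appL_append {X : Type*} (a : ℕ → X → X) (w w' : List ℕ) (x : X) :
    appL a (w ++ w') x = appL a w' (appL a w x) := by
  induction w generalizing x with
  | nil => rfl
  | cons k w ih => exact ih _

theorem appL_injective {X : Type*} {a : ℕ → X → X} (hinj : ∀ k, Function.Injective (a k))
    (w : List ℕ) : Function.Injective (appL a w) := by
  induction w with
  | nil => exact fun _ _ h => h
  | cons k w ih => exact fun x y h => hinj k (ih h)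

namespace Cert

variable (c : Cert) {X : Type*} (a : ℕ → X → X) (x0 : X)

/-- the point attached to a node -/
noncomputable def phi (v : ℕ) : X :=
  if _h : c.dfP v < v then a (c.dfG v) (phi (c.dfP v)) else x0
termination_by v

theorem phi_zero : c.phi a x0 0 = x0 := by
  rw [phi]; simp

theorem phi_of_lt {v : ℕ} (h : c.dfP v < v) :
    c.phi a x0 v = a (c.dfG v) (c.phi a x0 (c.dfP v)) := by
  rw [phi]; simp [h]

structure Valid (r : ℕ) : Prop where
  edge : ∀ u < c.M, ∀ k < c.A, c.rk (c.ent u k) < r →
    c.tg (c.ent u k) < c.M ∧ a k (c.phi a x0 u) = c.phi a x0 (c.tg (c.ent u k))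
  coin : ∀ z < c.M, c.N ≤ z → c.rk (c.cen z) < r →
    c.tg (c.cen z) < c.M ∧ c.phi a x0 z = c.phi a x0 (c.tg (c.cen z))

variable {c a x0}

theorem collapse_sound {r : ℕ} (hV : c.Valid a x0 r) (f : ℕ) : ∀ v < c.M,
    c.collapse r f v < c.M ∧ c.phi a x0 (c.collapse r f v) = c.phi a x0 v := by
  induction f with
  | zero => intro v hv; exact ⟨hv, rfl⟩
  | succ f ih =>
    intro v hv
    rw [collapse_succ]
    split_ifs with h1 h2
    · exact ⟨hv, rfl⟩
    · obtain ⟨h3, h4⟩ := hV.coin v hv (not_lt.mp h1) h2
      obtain ⟨h5, h6⟩ := ih _ h3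
      exact ⟨h5, h6.trans h4.symm⟩
    · exact ⟨hv, rfl⟩

theorem walk_sound {r : ℕ} (hV : c.Valid a x0 r) (w : List ℕ) : ∀ u < c.M,
    c.walk r w u < c.M → appL a w (c.phi a x0 u) = c.phi a x0 (c.walk r w u) := by
  induction w with
  | nil => intro u _ _; rfl
  | cons k w ih =>
    intro u hu h
    rw [walk_cons] at h ⊢
    split_ifs at h ⊢ with h1
    · obtain ⟨h3, h4⟩ := hV.edge u hu k h1.1 h1.2
      obtain ⟨h5, h6⟩ := collapse_sound hV 4 _ h3
      have := ih _ h5 h
      rw [h6] at this
      show appL a w (a k _) = _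
      rw [h4]; exact this
    · exact absurd h (lt_irrefl _)

theorem valid_all (hM : 0 < c.M) (hinj : ∀ k, Function.Injective (a k))
    (hR : ∀ i x, appL a (c.R i) x = x)
    (hS : ∀ i, (c.S i).2.1 < c.A → appL a ((c.S i).1 ++ (c.S i).2.1 :: (c.S i).2.2) x0 = x0)
    (hchk : ∀ u < c.M, c.nodeOK u = true) : ∀ r, r ≤ c.RM → c.Valid a x0 r := by
  intro r
  induction r with
  | zero => exact fun _ => ⟨fun _ _ _ _ h => absurd h (Nat.not_lt_zero _), fun _ _ _ h => absurd h (Nat.not_lt_zero _)⟩
  | succ r ih =>
    intro hrM
    have hV := ih (Nat.le_of_succ_le hrM)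
    have hne : Nat.beq r c.RM = false := by
      cases hb : Nat.beq r c.RM
      · rfl
      · rw [beq_iff'] at hb; omega
    constructor
    · intro u hu k hk hr
      rcases Nat.lt_succ_iff_lt_or_eq.mp hr with hr | hr
      · exact hV.edge u hu k hk hr
      have h := hchk u hu
      rw [nodeOK, andB_iff, allB_iff] at h
      have h := h.1 k hk
      simp only [edgeOK, force_eq] at h
      rw [hr, hne, bsel_false, andB_iff, ltB_iff] at h
      obtain ⟨hv, h⟩ := h
      refine ⟨hv, ?_⟩
      generalize c.tg (c.ent u k) = v at hv h ⊢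
      generalize Nat.shiftRight (c.jst u k) 2 = p at h
      cases h0 : Nat.beq (Nat.land (c.jst u k) 3) 0
      · rw [h0, bsel_false] at h
        cases h1 : Nat.beq (Nat.land (c.jst u k) 3) 1
        · rw [h1, bsel_false] at h
          cases h2 : Nat.beq (Nat.land (c.jst u k) 3) 2
          · -- transfer
            rw [h2, bsel_false] at h
            simp only [andB_iff, ltB_iff, beq_iff'] at h
            obtain ⟨hp, h3, h4⟩ := h
            have h5 := (collapse_sound hV 4 p hp).2
            have h6 := walk_sound hV [k] p hp (by rw [h4]; exact hv)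
            rw [h3] at h5
            rw [h4] at h6
            rw [h5]; exact h6
          · -- subgroup generator
            rw [h2, bsel_true] at h
            simp only [andB_iff, beq_iff'] at h
            obtain ⟨h3, h4, h5⟩ := h
            have h6 := walk_sound hV (c.S p).1 0 hM (by rw [h4]; exact hu)
            have h7 := walk_sound hV (c.S p).2.2 v hv (by rw [h5]; exact hM)
            rw [h4, phi_zero] at h6
            rw [h5, phi_zero] at h7
            have h8 := hS p (by rw [h3]; exact hk)
            rw [appL_append, h6, h3] at h8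
            exact appL_injective hinj _ (h8.trans h7.symm)
        · -- relator
          rw [h1, bsel_true] at h
          have h8 := hR p
          cases hρ : c.R p with
          | nil => rw [hρ] at h; exact absurd h (by simp [relOK])
          | cons k' w =>
            rw [hρ] at h h8
            have h' : andB (Nat.beq k' k) (Nat.beq (c.walk r w v) u) = true := h
            simp only [andB_iff, beq_iff'] at h'
            obtain ⟨h3, h4⟩ := h'
            have h6 := walk_sound hV w v hv (by rw [h4]; exact hu)
            rw [h4] at h6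
            have h9 := h8 (c.phi a x0 u)
            rw [h3] at h9
            exact appL_injective hinj w (h9.trans h6.symm)
      · -- tree edge
        rw [h0, bsel_true] at h
        simp only [andB_iff, ltB_iff, beq_iff'] at h
        obtain ⟨h3, h4, h5⟩ := h
        rw [phi_of_lt c a x0 (v := v) (by rw [h3]; exact h5), h3, h4]
    · intro z hz hN hr
      rcases Nat.lt_succ_iff_lt_or_eq.mp hr with hr | hr
      · exact hV.coin z hz hN hr
      have h := hchk z hz
      rw [nodeOK, andB_iff, ltB_false.mpr (not_lt.mpr hN), bsel_false] at h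
      have h := h.2
      simp only [coinOK, force_eq] at h
      rw [hr, hne, bsel_false, andB_iff, ltB_iff] at h
      obtain ⟨hy, h⟩ := h
      refine ⟨hy, ?_⟩
      generalize c.tg (c.cen z) = y at hy h ⊢
      generalize Nat.shiftRight (c.cjs z) 1 = p at h
      cases h0 : Nat.beq (Nat.land (c.cjs z) 1) 0
      · rw [h0, bsel_false] at h
        simp only [andB_iff, orB_iff, ltB_iff, beq_iff', Nat.ble_eq] at h
        obtain ⟨hq, hqN, hqr, h⟩ := h
        generalize Nat.shiftRight p 4 = q at hq hqN hqr h
        generalize Nat.land p 15 = k at h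
        obtain ⟨h3, h4⟩ := hV.coin q hq hqN hqr
        rcases h with ⟨h5, h6⟩ | ⟨h5, h6⟩
        · have h7 := walk_sound hV [k] q hq (by rw [h5]; exact hz)
          have h8 := walk_sound hV [k] _ h3 (by rw [h6]; exact hy)
          rw [h5] at h7; rw [h6] at h8
          rw [← h7, ← h8, h4]
        · have h7 := walk_sound hV [k] q hq (by rw [h5]; exact hy)
          have h8 := walk_sound hV [k] _ h3 (by rw [h6]; exact hz)
          rw [h5] at h7; rw [h6] at h8
          rw [← h7, ← h8, h4]
      · rw [h0, bsel_true, beq_iff'] at h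
        have h6 := walk_sound hV (c.R p) z hz (by rw [h]; exact hy)
        rw [h, hR] at h6
        exact h6

/-- the canonical nodes are closed under the generators -/
theorem closed (hM : 0 < c.M) (hNM : c.N ≤ c.M) (hinj : ∀ k, Function.Injective (a k))
    (hR : ∀ i x, appL a (c.R i) x = x)
    (hS : ∀ i, (c.S i).2.1 < c.A → appL a ((c.S i).1 ++ (c.S i).2.1 :: (c.S i).2.2) x0 = x0)
    (hchk : ∀ u < c.M, c.nodeOK u = true) (u : ℕ) (hu : u < c.N) (k : ℕ) (hk : k < c.A) :
    ∃ v < c.N, a k (c.phi a x0 u) = c.phi a x0 v := by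
  have hV := valid_all hM hinj hR hS hchk c.RM le_rfl
  have h := hchk u (lt_of_lt_of_le hu hNM)
  rw [nodeOK, andB_iff, ltB_iff.mpr hu, bsel_true] at h
  have h := (allB_iff.mp h.2) k hk
  simp only [resOK, force_eq, andB_iff, ltB_iff] at h
  obtain ⟨h1, h2⟩ := hV.edge u (lt_of_lt_of_le hu hNM) k hk h.1
  exact ⟨_, h.2, h2.trans (collapse_sound hV 4 _ h1).2.symm⟩

end Cert

end Cfsg.Agent.Lib.Helper40.PE
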