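/-
helper40: group theoretic consequences of the certificates of `PresEnum`.
-/
import Cfsg.Agent.Lib.Helper40.PresEnum

set_option autoImplicit false

namespace Cfsg.Agent.Lib.Helper40.PE

section Words

variable {G : Type*} [Group G] (s : ℕ → G)

/-- the product of a word (written order) -/
def wp (w : List ℕ) : G := (w.map s).prod

@[simp] theorem wp_nil : wp s [] = 1 := rfl
@[simp] theorem wp_cons (k : ℕ) (w : List ℕ) : wp s (k :: w) = s k * wp s w := by simp [wp]
theorem wp_append (w w' : List ℕ) : wp s (w ++ w') = wp s w * wp s w' := by simp [wp]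

theorem wp_reverse (hinv : ∀ k, s k * s k = 1) (w : List ℕ) : wp s w.reverse = (wp s w)⁻¹ := by
  induction w with
  | nil => simp
  | cons k w ih =>
    rw [List.reverse_cons, wp_append, ih, wp_cons s k w, mul_inv_rev]
    congr 1
    simp only [wp_cons, wp_nil, mul_one]
    exact eq_inv_of_mul_eq_one_left (hinv k)

theorem wp_rotate {b : List ℕ} (h : wp s b = 1) (t : ℕ) : wp s (b.rotate t) = 1 := by
  rw [List.rotate_eq_drop_append_take_mod, wp_append]
  have h2 : wp s (b.take (t % b.length)) * wp s (b.drop (t % b.length)) = 1 := by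
    rw [← wp_append, List.take_append_drop]; exact h
  have h3 := eq_inv_of_mul_eq_one_left h2
  rw [h3]; simp

theorem wp_flatten_replicate (n : ℕ) (w : List ℕ) :
    wp s (List.replicate n w).flatten = (wp s w) ^ n := by
  induction n with
  | zero => simp
  | succ n ih => rw [List.replicate_succ, List.flatten_cons, wp_append, ih, pow_succ']

/-- the rotated (and possibly reversed) relator with code `p` -/
def rotOf (B : List (List ℕ)) (p : ℕ) : List ℕ :=
  bif Nat.beq (Nat.land p 1) 0 then (B.getD (p / 512) []).rotate ((p / 2) % 256)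
  else ((B.getD (p / 512) []).rotate ((p / 2) % 256)).reverse

theorem wp_rotOf {B : List (List ℕ)} (hB : ∀ b ∈ B, wp s b = 1) (hinv : ∀ k, s k * s k = 1)
    (p : ℕ) : wp s (rotOf B p) = 1 := by
  have h1 : wp s (B.getD (p / 512) []) = 1 := by
    rw [List.getD_eq_getElem?_getD]
    cases h : B[p / 512]? with
    | none => simp
    | some b => exact hB b (List.mem_of_getElem? h)
  unfold rotOf
  cases Nat.beq (Nat.land p 1) 0
  · simp only [cond_false]
    rw [wp_reverse s hinv, wp_rotate s h1]; simp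
  · simp only [cond_true]
    exact wp_rotate s h1 _

/-- the Coxeter relators `(i j)^(m i j)`, `i, j < A` -/
def coxB (A : ℕ) (m : ℕ → ℕ → ℕ) : List (List ℕ) :=
  (List.range A).flatMap fun i => (List.range A).map fun j => (List.replicate (m i j) [i, j]).flatten

theorem wp_coxB {A : ℕ} {m : ℕ → ℕ → ℕ} (h : ∀ i < A, ∀ j < A, (s i * s j) ^ m i j = 1) :
    ∀ b ∈ coxB A m, wp s b = 1 := by
  intro b hb
  simp only [coxB, List.mem_flatMap, List.mem_map, List.mem_range] at hb
  obtain ⟨i, hi, j, hj, rfl⟩ := hb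
  rw [wp_flatten_replicate]
  simpa using h i hi j hj

/-- the subgroup word with code `p`, split at a letter -/
def splitOf (Sw : List (List ℕ)) (p : ℕ) : List ℕ × ℕ × List ℕ :=
  match (Sw.getD (p / 256) []).drop (p % 256) with
  | [] => ([], 1000000, [])
  | k :: post => ((Sw.getD (p / 256) []).take (p % 256), k, post)

theorem splitOf_spec (Sw : List (List ℕ)) (p : ℕ) (h : (splitOf Sw p).2.1 < 1000000) :
    (splitOf Sw p).1 ++ (splitOf Sw p).2.1 :: (splitOf Sw p).2.2 ∈ Sw := by
  unfold splitOf at h ⊢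
  cases hd : (Sw.getD (p / 256) []).drop (p % 256) with
  | nil => rw [hd] at h; simp at h
  | cons k post =>
    simp only
    rw [← hd, List.take_append_drop, List.getD_eq_getElem?_getD]
    cases h2 : Sw[p / 256]? with
    | none =>
      rw [List.getD_eq_getElem?_getD, h2] at hd
      simp at hd
    | some b => exact List.mem_of_getElem? h2

/-- the subgroup generated by the first `A` generators -/
def pre (A : ℕ) : Subgroup G := Subgroup.closure (s '' {k | k < A})

theorem s_mem_pre {A k : ℕ} (h : k < A) : s k ∈ pre s A :=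
  Subgroup.subset_closure ⟨k, h, rfl⟩

theorem pre_mono {A A' : ℕ} (h : A ≤ A') : pre s A ≤ pre s A' :=
  Subgroup.closure_mono (Set.image_mono fun _ hk => lt_of_lt_of_le hk h)

theorem pre_zero : pre s 0 = ⊥ := by
  simp [pre]

theorem appL_smul {X : Type*} [MulAction G X] (w : List ℕ) (x : X) :
    appL (fun k x => s k • x) w x = wp s w.reverse • x := by
  induction w generalizing x with
  | nil => simp [appL]
  | cons k w ih =>
    show appL _ w (s k • x) = _
    rw [ih, List.reverse_cons, wp_append, mul_smul]; simp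

end Words

section Cover

variable {G : Type*} [Group G] {s : ℕ → G} {c : Cert} {H : Subgroup G}

/-- the coset attached to a node -/
noncomputable def Cert.cos (c : Cert) (s : ℕ → G) (H : Subgroup G) (u : ℕ) : G ⧸ H :=
  c.phi (fun k x => s k • x) ((1 : G) : G ⧸ H) u

theorem cover (hinv : ∀ k, s k * s k = 1) (hN : 0 < c.N) (hNM : c.N ≤ c.M)
    (hR : ∀ i, wp s (c.R i) = 1)
    (hS : ∀ i, (c.S i).2.1 < c.A → wp s ((c.S i).1 ++ (c.S i).2.1 :: (c.S i).2.2) ∈ H)
    (hchk : ∀ u < c.M, c.nodeOK u = true) (g : G) (hg : g ∈ pre s c.A) :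
    ∃ u < c.N, (g : G ⧸ H) = c.cos s H u := by
  have hcl := Cert.closed (c := c) (a := fun k (x : G ⧸ H) => s k • x) (x0 := ((1 : G) : G ⧸ H))
    (lt_of_lt_of_le hN hNM) hNM (fun k => MulAction.injective (s k))
    (fun i x => by rw [appL_smul, wp_reverse s hinv, hR]; simp)
    (fun i hi => by
      rw [appL_smul, wp_reverse s hinv]
      have := H.inv_mem (hS i hi)
      rw [MulAction.Quotient.smul_mk, smul_eq_mul, mul_one]
      have h2 := QuotientGroup.mk_mul_of_mem (s := H) 1 this
      rwa [one_mul] at h2)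
    hchk
  have key : ∀ g ∈ pre s c.A, (∀ u < c.N, ∃ v < c.N, g • c.cos s H u = c.cos s H v) ∧
      (∀ u < c.N, ∃ v < c.N, g⁻¹ • c.cos s H u = c.cos s H v) := by
    intro g hg
    induction hg using Subgroup.closure_induction with
    | mem x hx =>
      obtain ⟨k, hk, rfl⟩ := hx
      have : (s k)⁻¹ = s k := (eq_inv_of_mul_eq_one_left (hinv k)).symm
      rw [this]
      exact ⟨fun u hu => hcl u hu k hk, fun u hu => hcl u hu k hk⟩
    | one => exact ⟨fun u hu => ⟨u, hu, by simp⟩, fun u hu => ⟨u, hu, by simp⟩⟩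
    | mul x y _ _ hx hy =>
      constructor
      · intro u hu
        obtain ⟨v, hv, h1⟩ := hy.1 u hu
        obtain ⟨w, hw, h2⟩ := hx.1 v hv
        exact ⟨w, hw, by rw [mul_smul, h1, h2]⟩
      · intro u hu
        obtain ⟨v, hv, h1⟩ := hx.2 u hu
        obtain ⟨w, hw, h2⟩ := hy.2 v hv
        exact ⟨w, hw, by rw [mul_inv_rev, mul_smul, h1, h2]⟩
    | inv x _ hx => exact ⟨hx.2, by rw [inv_inv]; exact hx.1⟩
  obtain ⟨v, hv, h⟩ := (key g hg).1 0 hN
  refine ⟨v, hv, ?_⟩
  rw [← h, Cert.cos, Cert.phi_zero]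
  simp [MulAction.Quotient.smul_mk]

/-- the form of `cover` used by the generated files -/
theorem cover' {B Sw : List (List ℕ)} (hcR : c.R = rotOf B) (hcS : c.S = splitOf Sw)
    (hA : c.A ≤ 1000000) (hN : 0 < c.N) (hNM : c.N ≤ c.M)
    (hchk : ∀ u < c.M, c.nodeOK u = true)
    (hinv : ∀ k, s k * s k = 1) (hB : ∀ b ∈ B, wp s b = 1) (hH : ∀ w ∈ Sw, wp s w ∈ H)
    (g : G) (hg : g ∈ pre s c.A) : ∃ u < c.N, (g : G ⧸ H) = c.cos s H u := by
  refine cover hinv hN hNM (fun i => ?_) (fun i hi => ?_) hchk g hg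
  · rw [hcR]; exact wp_rotOf s hB hinv i
  · rw [hcS] at hi ⊢
    exact hH _ (splitOf_spec Sw i (lt_of_lt_of_le hi hA))

/-- a covering of a subgroup `K` by `N` cosets of `H` bounds its order -/
theorem card_le_of_cover {K : Subgroup G} {N : ℕ} (f : ℕ → G ⧸ H) [Finite H]
    (h : ∀ g ∈ K, ∃ u < N, (g : G ⧸ H) = f u) :
    Finite K ∧ Nat.card K ≤ N * Nat.card H := by
  classical
  choose! u hu hf using h
  let F : K → Fin (N + 1) × H := fun g =>
    (⟨u g.1, Nat.lt_succ_of_lt (hu g.1 g.2)⟩,
      ⟨(Quotient.out (f (u g.1)))⁻¹ * g.1, by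
        have h1 : ((Quotient.out (f (u g.1)) : G) : G ⧸ H) = (g.1 : G ⧸ H) := by
          rw [hf g.1 g.2]; exact Quotient.out_eq' _
        exact QuotientGroup.eq.mp h1⟩)
  have hF : Function.Injective F := by
    intro g g' hgg
    have h1 : u g.1 = u g'.1 := by
      have := congrArg (fun p => (p.1 : ℕ)) hgg
      exact this
    have h2 : (Quotient.out (f (u g.1)))⁻¹ * g.1 = (Quotient.out (f (u g'.1)))⁻¹ * g'.1 := by
      have := congrArg (fun p => (p.2 : G)) hgg
      exact this
    rw [h1] at h2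
    exact Subtype.ext (mul_left_cancel h2)
  have hfin : Finite K := Finite.of_injective F hF
  refine ⟨hfin, ?_⟩
  -- sharper count: the first coordinate is `< N`
  let F' : K → Fin N × H := fun g =>
    (⟨u g.1, hu g.1 g.2⟩, (F g).2)
  have hF' : Function.Injective F' := by
    intro g g' hgg
    apply hF
    have h1 : u g.1 = u g'.1 := by
      have := congrArg (fun p => (p.1 : ℕ)) hgg
      exact this
    have h2 : (F g).2 = (F g').2 := congrArg (fun p => p.2) hgg
    exact Prod.ext (Fin.ext h1) h2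
  have := Nat.card_le_card_of_injective F' hF'
  simpa [Nat.card_prod] using this

theorem card_quot_le_of_cover {N : ℕ} (f : ℕ → G ⧸ H)
    (h : ∀ g : G, ∃ u < N, (g : G ⧸ H) = f u) :
    Finite (G ⧸ H) ∧ Nat.card (G ⧸ H) ≤ N := by
  have hs : Function.Surjective (fun i : Fin N => f i) := by
    intro q
    obtain ⟨g, rfl⟩ := QuotientGroup.mk_surjective q
    obtain ⟨u, hu, h1⟩ := h g
    exact ⟨⟨u, hu⟩, h1.symm⟩
  refine ⟨Finite.of_surjective _ hs, ?_⟩
  have := Nat.card_le_card_of_surjective _ hs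
  simpa using this

end Cover

end Cfsg.Agent.Lib.Helper40.PE
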