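/-
helper40: permutation representations given by packed tables, checked by the kernel.
-/
import Cfsg.Agent.Lib.Helper40.PresGroup

set_option autoImplicit false

namespace Cfsg.Agent.Lib.Helper40.PE

noncomputable def allL {α : Type} (q : α → Bool) (l : List α) : Bool :=
  List.rec (motive := fun _ => Bool) true (fun a _ ih => Bool.rec false ih (q a)) l

theorem allL_iff {α : Type} {q : α → Bool} {l : List α} : allL q l = true ↔ ∀ a ∈ l, q a = true := by
  induction l with
  | nil => simp [allL]
  | cons a l ih =>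
    have : allL q (a :: l) = Bool.rec false (allL q l) (q a) := rfl
    rw [this]
    cases h : q a
    · simp [h]
    · simp [h, ih]

/-- a packed table: row `x` holds the images of `x` under the `A` generators (width `tb`), a parent
(at offset `oP`) and the number of a word (at offset `oG`) -/
structure PTab where
  N : ℕ
  A : ℕ
  tb : ℕ
  mT : ℕ
  oP : ℕ
  oG : ℕ
  T : BT ℕ

namespace PTab

variable (p : PTab)

noncomputable def pe (x k : ℕ) : ℕ := Nat.land (Nat.shiftRight (p.T.get x) (Nat.mul p.tb k)) p.mT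
noncomputable def hp (x : ℕ) : ℕ := Nat.land (Nat.shiftRight (p.T.get x) p.oP) p.mT
noncomputable def hg (x : ℕ) : ℕ := Nat.land (Nat.shiftRight (p.T.get x) p.oG) 255

noncomputable def walk (w : List ℕ) : ℕ → ℕ :=
  List.rec (motive := fun _ => ℕ → ℕ) (fun u => u) (fun k _ ih u => force (p.pe u k) ih) w

theorem walk_eq (w : List ℕ) (x : ℕ) : p.walk w x = appL (fun k x => p.pe x k) w x := by
  induction w generalizing x with
  | nil => rfl
  | cons k w ih =>
    have : p.walk (k :: w) x = force (p.pe x k) (p.walk w) := rfl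
    rw [this, force_eq, ih]; rfl

/-- the checks at the point `x` -/
noncomputable def ptOK (B : List (List ℕ)) (x : ℕ) : Bool :=
  andB (allB (fun k => ltB (p.pe x k) p.N) p.A) (allL (fun b => Nat.beq (p.walk b x) x) B)

/-- the action of the letters on `ℕ` -/
noncomputable def fn (k x : ℕ) : ℕ := if x < p.N ∧ k < p.A then p.pe x k else x

variable {p} {B : List (List ℕ)}

theorem fn_lt (hOK : ∀ x < p.N, p.ptOK B x = true) (k x : ℕ) (hx : x < p.N) : p.fn k x < p.N := by
  unfold fn
  split_ifs with h
  · have := hOK x hx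
    rw [ptOK, andB_iff, allB_iff] at this
    exact ltB_iff.mp (this.1 k h.2)
  · exact hx

theorem appL_fn_lt (hOK : ∀ x < p.N, p.ptOK B x = true) (w : List ℕ) (x : ℕ) (hx : x < p.N) :
    appL p.fn w x < p.N := by
  induction w generalizing x with
  | nil => exact hx
  | cons k w ih => exact ih _ (fn_lt hOK k x hx)

theorem appL_fn_ge (w : List ℕ) (x : ℕ) (hx : ¬ x < p.N) : appL p.fn w x = x := by
  induction w with
  | nil => rfl
  | cons k w ih =>
    show appL p.fn w (p.fn k x) = x
    have : p.fn k x = x := by simp [fn, hx]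
    rw [this, ih]

theorem appL_fn (hOK : ∀ x < p.N, p.ptOK B x = true) (w : List ℕ) (hw : ∀ k ∈ w, k < p.A)
    (x : ℕ) (hx : x < p.N) : appL p.fn w x = p.walk w x := by
  rw [walk_eq]
  induction w generalizing x with
  | nil => rfl
  | cons k w ih =>
    have h1 : p.fn k x = p.pe x k := by simp [fn, hx, hw k (by simp)]
    show appL p.fn w (p.fn k x) = appL _ w (p.pe x k)
    rw [← h1]
    exact ih (fun k' hk' => hw k' (by simp [hk'])) _ (fn_lt hOK k x hx)

theorem appL_fn_rel (hOK : ∀ x < p.N, p.ptOK B x = true) (hlet : ∀ b ∈ B, ∀ k ∈ b, k < p.A)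
    (b : List ℕ) (hb : b ∈ B) (x : ℕ) : appL p.fn b x = x := by
  by_cases hx : x < p.N
  · rw [appL_fn hOK b (hlet b hb) x hx]
    have := hOK x hx
    rw [ptOK, andB_iff, allL_iff] at this
    exact beq_iff'.mp (this.2 b hb)
  · exact appL_fn_ge b x hx

theorem fn_invol (hOK : ∀ x < p.N, p.ptOK B x = true) (hlet : ∀ b ∈ B, ∀ k ∈ b, k < p.A)
    (hkk : ∀ k < p.A, [k, k] ∈ B) (k x : ℕ) : p.fn k (p.fn k x) = x := by
  by_cases hk : k < p.A
  · exact appL_fn_rel hOK hlet [k, k] (hkk k hk) x
  · simp [fn, hk]

/-- hypotheses under which the table is a permutation representation -/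
structure Good (p : PTab) (B : List (List ℕ)) : Prop where
  ok : ∀ x < p.N, p.ptOK B x = true
  letters : ∀ b ∈ B, ∀ k ∈ b, k < p.A
  kk : ∀ k < p.A, [k, k] ∈ B

/-- the permutation induced by a letter -/
noncomputable def sig (h : p.Good B) (k : ℕ) : Equiv.Perm ℕ where
  toFun := p.fn k
  invFun := p.fn k
  left_inv := fn_invol h.ok h.letters h.kk k
  right_inv := fn_invol h.ok h.letters h.kk k

theorem sig_apply (h : p.Good B) (k x : ℕ) : sig h k x = p.fn k x := rfl

theorem sig_invol (h : p.Good B) (k : ℕ) : sig h k * sig h k = 1 := by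
  ext x
  simp only [Equiv.Perm.mul_apply, sig_apply, Equiv.Perm.one_apply]
  exact fn_invol h.ok h.letters h.kk k x

theorem wp_sig_apply (h : p.Good B) (w : List ℕ) (x : ℕ) :
    wp (sig h) w.reverse x = appL p.fn w x := by
  induction w generalizing x with
  | nil => simp [appL]
  | cons k w ih =>
    rw [List.reverse_cons, wp_append, Equiv.Perm.mul_apply]
    simp only [wp_cons, wp_nil, mul_one, sig_apply]
    exact ih _

theorem wp_sig_rel (h : p.Good B) (b : List ℕ) (hb : b ∈ B) : wp (sig h) b = 1 := by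
  have h1 : wp (sig h) b.reverse = 1 := by
    ext x
    rw [wp_sig_apply, appL_fn_rel h.ok h.letters b hb]; rfl
  rw [wp_reverse _ (sig_invol h)] at h1
  exact inv_eq_one.mp h1

end PTab

end Cfsg.Agent.Lib.Helper40.PE
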