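/-
helper40: index and suborbits from a permutation representation together with an upper bound.
-/
import Cfsg.Agent.Lib.Helper40.PresAct

set_option autoImplicit false

namespace Cfsg.Agent.Lib.Helper40.PE

section Index

variable {G : Type*} [Group G] {ρ : G →* Equiv.Perm ℕ} {H : Subgroup G} {N : ℕ}

/-- evaluation of a coset at the base point -/
def ev (hfix : ∀ h ∈ H, ρ h 0 = 0) (q : G ⧸ H) : ℕ :=
  Quotient.liftOn' q (fun g => ρ g 0) (by
    intro a b hab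
    have h1 : a⁻¹ * b ∈ H := QuotientGroup.leftRel_apply.mp hab
    have h2 := hfix _ h1
    have h3 : ρ b 0 = ρ a (ρ (a⁻¹ * b) 0) := by
      rw [← Equiv.Perm.mul_apply, ← map_mul]; simp
    show ρ a 0 = ρ b 0
    rw [h3, h2])

theorem ev_mk (hfix : ∀ h ∈ H, ρ h 0 = 0) (g : G) : ev hfix (g : G ⧸ H) = ρ g 0 := rfl

theorem ev_smul (hfix : ∀ h ∈ H, ρ h 0 = 0) (g : G) (q : G ⧸ H) :
    ev hfix (g • q) = ρ g (ev hfix q) := by
  obtain ⟨a, rfl⟩ := QuotientGroup.mk_surjective q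
  rw [MulAction.Quotient.smul_mk, ev_mk, ev_mk, smul_eq_mul, map_mul, Equiv.Perm.mul_apply]

theorem index_of_bounds (hub : Finite (G ⧸ H) ∧ Nat.card (G ⧸ H) ≤ N)
    (hfix : ∀ h ∈ H, ρ h 0 = 0) (htrans : ∀ x < N, ∃ g, ρ g 0 = x) :
    H.index = N ∧ Function.Injective (ev hfix) ∧ ∀ q, ev hfix q < N := by
  have := hub.1
  choose! t ht using htrans
  let f : Fin N → G ⧸ H := fun x => (t x : G ⧸ H)
  have hf : ∀ x : Fin N, ev hfix (f x) = x := fun x => ht x x.2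
  have hinj : Function.Injective f := by
    intro x y hxy
    have := congrArg (ev hfix) hxy
    rw [hf, hf] at this
    exact Fin.ext this
  have hbij : Function.Bijective f :=
    hinj.bijective_of_nat_card_le (by simpa using hub.2)
  refine ⟨?_, ?_, ?_⟩
  · have := Nat.card_congr (Equiv.ofBijective f hbij)
    rw [Subgroup.index, ← this]; simp
  · intro q q' h
    obtain ⟨x, rfl⟩ := hbij.2 q
    obtain ⟨y, rfl⟩ := hbij.2 q'
    rw [hf, hf] at h
    rw [Fin.ext h]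
  · intro q
    obtain ⟨x, rfl⟩ := hbij.2 q
    rw [hf]; exact x.2

theorem mapsTo_of_gens {S : Set G} (hH : H = Subgroup.closure S) {lo hi : ℕ}
    (hmaps : ∀ g ∈ S, Set.MapsTo (ρ g⁻¹) (Set.Ico lo hi) (Set.Ico lo hi)) :
    ∀ h ∈ H, Set.MapsTo (ρ h) (Set.Ico lo hi) (Set.Ico lo hi) := by
  have key : ∀ h ∈ Subgroup.closure S, Set.MapsTo (ρ h) (Set.Ico lo hi) (Set.Ico lo hi) ∧
      Set.MapsTo (ρ h⁻¹) (Set.Ico lo hi) (Set.Ico lo hi) := by
    intro h hh
    induction hh using Subgroup.closure_induction with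
    | mem g hg =>
      refine ⟨?_, hmaps g hg⟩
      have := Equiv.Perm.perm_symm_mapsTo_of_mapsTo (ρ g⁻¹) (hmaps g hg)
      have e : (ρ g⁻¹).symm = ρ g := by rw [map_inv]; rfl
      rwa [e] at this
    | one => simp [Set.MapsTo]
    | mul x y _ _ hx hy =>
      constructor
      · rw [map_mul]; exact fun a ha => hx.1 (hy.1 ha)
      · rw [mul_inv_rev, map_mul]; exact fun a ha => hy.2 (hx.2 ha)
    | inv x _ hx => exact ⟨hx.2, by rw [inv_inv]; exact hx.1⟩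
  intro h hh
  rw [hH] at hh
  exact (key h hh).1

theorem reach_of_tree {lo hi : ℕ}
    (htree : ∀ x, lo < x → x < hi → ∃ y, ∃ g ∈ H, lo ≤ y ∧ y < x ∧ ρ g y = x) :
    ∀ x, lo ≤ x → x < hi → ∃ h ∈ H, ρ h lo = x := by
  intro x
  induction x using Nat.strong_induction_on with
  | _ x ih =>
    intro h1 h2
    rcases Nat.eq_or_lt_of_le h1 with h | h
    · exact ⟨1, H.one_mem, by simp [h]⟩
    · obtain ⟨y, g, hg, hy1, hy2, hy3⟩ := htree x h h2
      obtain ⟨h', hh', h3⟩ := ih y hy2 hy1 (lt_trans hy2 h2)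
      exact ⟨g * h', H.mul_mem hg hh', by rw [map_mul, Equiv.Perm.mul_apply, h3, hy3]⟩

theorem orbit_ncard (hfix : ∀ h ∈ H, ρ h 0 = 0) (hinj : Function.Injective (ev hfix))
    {lo hi : ℕ} (hlh : lo < hi)
    (hmaps : ∀ h ∈ H, Set.MapsTo (ρ h) (Set.Ico lo hi) (Set.Ico lo hi))
    (hreach : ∀ x, lo ≤ x → x < hi → ∃ h ∈ H, ρ h lo = x)
    (q : G ⧸ H) (hq : ev hfix q = lo) : (MulAction.orbit H q).ncard = hi - lo := by
  have h1 : ev hfix '' (MulAction.orbit H q) = Set.Ico lo hi := by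
    ext x
    constructor
    · rintro ⟨_, ⟨h, rfl⟩, rfl⟩
      have : ev hfix (h • q) = ρ h.1 (ev hfix q) := ev_smul hfix h.1 q
      rw [this, hq]
      exact hmaps h.1 h.2 ⟨le_rfl, hlh⟩
    · rintro ⟨hx1, hx2⟩
      obtain ⟨h, hh, h3⟩ := hreach x hx1 hx2
      refine ⟨(⟨h, hh⟩ : H) • q, ⟨⟨h, hh⟩, rfl⟩, ?_⟩
      have : ev hfix ((⟨h, hh⟩ : H) • q) = ρ h (ev hfix q) := ev_smul hfix h q
      rw [this, hq, h3]
  rw [← Set.ncard_image_of_injective _ hinj, h1]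
  simp [Set.ncard_eq_toFinset_card']

end Index

end Cfsg.Agent.Lib.Helper40.PE
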