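/-
helper40: orbits of a subgroup given by words, on a packed table.
-/
import Cfsg.Agent.Lib.Helper40.PresIndex

set_option autoImplicit false

namespace Cfsg.Agent.Lib.Helper40.PE

section

variable {G : Type*} [Group G] (s : ℕ → G)

/-- the subgroup generated by a list of words -/
def Hs (Sw : List (List ℕ)) : Subgroup G := Subgroup.closure {g | ∃ w ∈ Sw, wp s w = g}

theorem wp_mem_Hs {Sw : List (List ℕ)} {w : List ℕ} (h : w ∈ Sw) : wp s w ∈ Hs s Sw :=
  Subgroup.subset_closure ⟨w, h, rfl⟩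

theorem wp_getD_mem_Hs (Sw : List (List ℕ)) (i : ℕ) : wp s (Sw.getD i []) ∈ Hs s Sw := by
  rw [List.getD_eq_getElem?_getD]
  cases h : Sw[i]? with
  | none => simp
  | some b => exact wp_mem_Hs s (List.mem_of_getElem? h)

theorem pre_eq_Hs (A : ℕ) : pre s A = Hs s ((List.range A).map fun k => [k]) := by
  unfold pre Hs
  congr 1
  ext g
  simp only [Set.mem_image, Set.mem_ofPred_eq, List.mem_map, List.mem_range]
  constructor
  · rintro ⟨k, hk, rfl⟩
    exact ⟨[k], ⟨k, hk, rfl⟩, by simp⟩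
  · rintro ⟨w, ⟨k, hk, rfl⟩, rfl⟩
    exact ⟨k, hk, by simp⟩

end

namespace PTab

variable (p : PTab)

/-- check at the point `x` of the orbit `[lo, hi)` of the subgroup generated by the words `Sw` -/
noncomputable def orbOK (Sw : List (List ℕ)) (lo hi x : ℕ) : Bool :=
  andB (allL (fun w => force (p.walk w x) fun y => andB (Nat.ble lo y) (ltB y hi)) Sw)
    (bsel (Nat.beq x lo) true
      (force (p.hp x) fun y => andB (Nat.ble lo y) (andB (ltB y x)
        (Nat.beq (p.walk (Sw.getD (p.hg x) []) y) x))))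

variable {p} {B : List (List ℕ)} {G : Type*} [Group G] {s : ℕ → G} {ρ : G →* Equiv.Perm ℕ}

theorem rho_wp (h : p.Good B) (hρ : ∀ k < p.A, ρ (s k) = sig h k) (w : List ℕ)
    (hw : ∀ k ∈ w, k < p.A) : ρ (wp s w) = wp (sig h) w := by
  induction w with
  | nil => simp
  | cons k w ih =>
    rw [wp_cons, wp_cons, map_mul, hρ k (hw k (by simp)), ih fun k' hk' => hw k' (by simp [hk'])]

theorem rho_wp_inv (h : p.Good B) (hρ : ∀ k < p.A, ρ (s k) = sig h k) (w : List ℕ)
    (hw : ∀ k ∈ w, k < p.A) (x : ℕ) (hx : x < p.N) : ρ (wp s w)⁻¹ x = p.walk w x := by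
  rw [map_inv, rho_wp h hρ w hw, ← wp_reverse _ (sig_invol h), wp_sig_apply, appL_fn h.ok w hw x hx]

theorem orb_spec (h : p.Good B) (hρ : ∀ k < p.A, ρ (s k) = sig h k) {Sw : List (List ℕ)}
    (hSw : ∀ w ∈ Sw, ∀ k ∈ w, k < p.A) {lo hi : ℕ} (hhi : hi ≤ p.N)
    (hchk : ∀ x, lo ≤ x → x < hi → p.orbOK Sw lo hi x = true) :
    (∀ g ∈ Hs s Sw, Set.MapsTo (ρ g) (Set.Ico lo hi) (Set.Ico lo hi)) ∧
    (∀ x, lo ≤ x → x < hi → ∃ g ∈ Hs s Sw, ρ g lo = x) := by
  constructor
  · apply mapsTo_of_gens rfl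
    rintro g ⟨w, hw, rfl⟩ x ⟨hx1, hx2⟩
    have h1 := hchk x hx1 hx2
    rw [orbOK, andB_iff, allL_iff] at h1
    have h2 := h1.1 w hw
    simp only [force_eq, andB_iff, ltB_iff, Nat.ble_eq] at h2
    rw [rho_wp_inv h hρ w (hSw w hw) x (lt_of_lt_of_le hx2 hhi)]
    exact h2
  · apply reach_of_tree
    intro x hx1 hx2
    have h1 := hchk x hx1.le hx2
    rw [orbOK, andB_iff] at h1
    have hne : Nat.beq x lo = false := by
      cases hb : Nat.beq x lo
      · rfl
      · rw [beq_iff'] at hb; omega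
    have h2 := h1.2
    rw [hne, bsel_false] at h2
    simp only [force_eq, andB_iff, ltB_iff, Nat.ble_eq, beq_iff'] at h2
    obtain ⟨h3, h4, h5⟩ := h2
    refine ⟨p.hp x, (wp s (Sw.getD (p.hg x) []))⁻¹, (Hs s Sw).inv_mem (wp_getD_mem_Hs s Sw _), h3, h4, ?_⟩
    rw [rho_wp_inv h hρ _ _ _ (lt_of_lt_of_le (lt_trans h4 hx2) hhi), h5]
    intro k hk
    rw [List.getD_eq_getElem?_getD] at hk
    cases h6 : Sw[p.hg x]? with
    | none => rw [h6] at hk; simp at hk
    | some b => rw [h6] at hk; exact hSw b (List.mem_of_getElem? h6) k hk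

end PTab

end Cfsg.Agent.Lib.Helper40.PE
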