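/-
helper40: lower bounds for the order of a group from a chain of pointwise stabilisers.
-/
import Cfsg.Agent.Lib.Helper40.PresOrb

set_option autoImplicit false

namespace Cfsg.Agent.Lib.Helper40.PE

section

variable {Γ : Type*} [Group Γ] (ρ : Γ →* Equiv.Perm ℕ)

/-- the pointwise stabiliser of a list of points -/
def fixer (l : List ℕ) : Subgroup Γ where
  carrier := {g | ∀ b ∈ l, ρ g b = b}
  one_mem' := by intro b _; simp
  mul_mem' := by
    intro g h hg hh b hb
    rw [map_mul, Equiv.Perm.mul_apply, hh b hb, hg b hb]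
  inv_mem' := by
    intro g hg b hb
    rw [map_inv, Equiv.Perm.inv_eq_iff_eq, hg b hb]

theorem mem_fixer {l : List ℕ} {g : Γ} : g ∈ fixer ρ l ↔ ∀ b ∈ l, ρ g b = b := Iff.rfl

theorem fixer_nil : fixer ρ [] = ⊤ := by
  ext g; simp [mem_fixer]

variable {ρ}

theorem level_lower [Finite Γ] (l : List ℕ) (b n : ℕ) (xs : ℕ → ℕ)
    (hinj : ∀ t < n, ∀ t' < n, xs t = xs t' → t = t')
    (hreach : ∀ t < n, ∃ g ∈ fixer ρ l, ρ g b = xs t) :
    n * Nat.card (fixer ρ (b :: l)) ≤ Nat.card (fixer ρ l) := by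
  choose! g hg hgb using hreach
  let F : Fin n × fixer ρ (b :: l) → fixer ρ l := fun q =>
    ⟨g q.1 * q.2.1, (fixer ρ l).mul_mem (hg q.1 q.1.2)
      (fun c hc => q.2.2 c (List.mem_cons_of_mem _ hc))⟩
  have hF : Function.Injective F := by
    rintro ⟨t, k⟩ ⟨t', k'⟩ h
    have h1 : g t * k.1 = g t' * k'.1 := congrArg Subtype.val h
    have h2 : ρ (g t * k.1) b = xs t := by
      rw [map_mul, Equiv.Perm.mul_apply, k.2 b List.mem_cons_self, hgb t t.2]
    have h3 : ρ (g t' * k'.1) b = xs t' := by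
      rw [map_mul, Equiv.Perm.mul_apply, k'.2 b List.mem_cons_self, hgb t' t'.2]
    have h4 : (t : ℕ) = t' := hinj t t.2 t' t'.2 (by rw [← h2, ← h3, h1])
    have h5 : t = t' := Fin.ext h4
    subst h5
    have h6 : k.1 = k'.1 := mul_left_cancel h1
    rw [Subtype.ext h6]
  have := Nat.card_le_card_of_injective F hF
  simpa [Nat.card_prod] using this

theorem inj_of_mono {n : ℕ} {xs : ℕ → ℕ} (h : ∀ t, t + 1 < n → xs t < xs (t + 1)) :
    ∀ t < n, ∀ t' < n, xs t = xs t' → t = t' := by
  have key : ∀ d t, t + d + 1 < n → xs t < xs (t + d + 1) := by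
    intro d
    induction d with
    | zero => intro t ht; exact h t ht
    | succ d ih =>
      intro t ht
      exact lt_trans (ih t (by omega)) (h (t + d + 1) ht)
  intro t ht t' ht' he
  rcases Nat.lt_trichotomy t t' with h1 | h1 | h1
  · have := key (t' - t - 1) t (by omega)
    rw [show t + (t' - t - 1) + 1 = t' by omega] at this
    omega
  · exact h1
  · have := key (t - t' - 1) t' (by omega)
    rw [show t' + (t - t' - 1) + 1 = t by omega] at this
    omega

end

/-- the table of an orbit: entry `t` holds a point, the index of its parent, a letter and a depth -/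
structure LTab where
  n : ℕ
  b : ℕ
  T : BT ℕ

namespace PTab

variable (p : PTab) (L : LTab)

noncomputable def lx (e : ℕ) : ℕ := Nat.land e p.mT
noncomputable def lp (e : ℕ) : ℕ := Nat.land (Nat.shiftRight e p.tb) p.mT
noncomputable def ll (e : ℕ) : ℕ := Nat.land (Nat.shiftRight e (Nat.mul 2 p.tb)) 15
noncomputable def ld (e : ℕ) : ℕ := Nat.shiftRight e (Nat.add (Nat.mul 2 p.tb) 4)

/-- the check of entry `t` of an orbit table; `prev` are the earlier base points -/
noncomputable def lvlOK (prev : List ℕ) (t : ℕ) : Bool :=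
  force (L.T.get t) fun e => force (p.lx e) fun x =>
    andB (ltB x p.N)
    (andB (bsel (ltB (Nat.succ t) L.n) (ltB x (p.lx (L.T.get (Nat.succ t)))) true)
      (bsel (Nat.beq (p.ld e) 0) (Nat.beq x L.b)
        (force (p.lp e) fun pr => force (L.T.get pr) fun e' => force (p.ll e) fun k =>
          andB (ltB pr L.n) (andB (ltB (p.ld e') (p.ld e)) (andB (ltB k p.A)
            (andB (allL (fun β => andB (ltB β p.N) (Nat.beq (p.pe β k) β)) prev)
              (Nat.beq (p.pe (p.lx e') k) x)))))))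

variable {p L} {B : List (List ℕ)} {Γ : Type*} [Group Γ] {s : ℕ → Γ} {ρ : Γ →* Equiv.Perm ℕ}

theorem rho_s (h : p.Good B) (hρ : ∀ k < p.A, ρ (s k) = sig h k) {k x : ℕ} (hk : k < p.A)
    (hx : x < p.N) : ρ (s k) x = p.pe x k := by
  rw [hρ k hk, sig_apply, fn]; simp [hk, hx]

theorem lvl_lower [Finite Γ] (h : p.Good B) (hρ : ∀ k < p.A, ρ (s k) = sig h k) (prev : List ℕ)
    (hchk : ∀ t < L.n, p.lvlOK L prev t = true) :
    L.n * Nat.card (fixer ρ (L.b :: prev)) ≤ Nat.card (fixer ρ prev) := by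
  have hspec : ∀ t < L.n, p.lx (L.T.get t) < p.N ∧
      (t + 1 < L.n → p.lx (L.T.get t) < p.lx (L.T.get (t + 1))) ∧
      ((p.ld (L.T.get t) = 0 ∧ p.lx (L.T.get t) = L.b) ∨
        (p.lp (L.T.get t) < L.n ∧ p.ld (L.T.get (p.lp (L.T.get t))) < p.ld (L.T.get t) ∧
          p.ll (L.T.get t) < p.A ∧
          (∀ β ∈ prev, β < p.N ∧ p.pe β (p.ll (L.T.get t)) = β) ∧
          p.pe (p.lx (L.T.get (p.lp (L.T.get t)))) (p.ll (L.T.get t)) = p.lx (L.T.get t))) := by
    intro t ht
    have h1 := hchk t ht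
    simp only [lvlOK, force_eq, andB_iff, ltB_iff] at h1
    obtain ⟨h2, h3, h4⟩ := h1
    refine ⟨h2, ?_, ?_⟩
    · intro h5
      rw [ltB_iff.mpr (show Nat.succ t < L.n from h5), bsel_true, ltB_iff] at h3
      exact h3
    · cases h6 : Nat.beq (p.ld (L.T.get t)) 0
      · rw [h6, bsel_false] at h4
        simp only [andB_iff, ltB_iff, beq_iff', allL_iff] at h4
        exact Or.inr h4
      · rw [h6, bsel_true, beq_iff'] at h4
        exact Or.inl ⟨beq_iff'.mp h6, h4⟩
  apply level_lower prev L.b L.n (fun t => p.lx (L.T.get t))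
  · exact inj_of_mono fun t ht => (hspec t (by omega)).2.1 ht
  · -- reachability by induction on the depth
    have key : ∀ d t, t < L.n → p.ld (L.T.get t) = d →
        ∃ g ∈ fixer ρ prev, ρ g L.b = p.lx (L.T.get t) := by
      intro d
      induction d using Nat.strong_induction_on with
      | _ d ih =>
        intro t ht hd
        rcases (hspec t ht).2.2 with ⟨-, h2⟩ | ⟨h1, h2, h3, h4, h5⟩
        · exact ⟨1, (fixer ρ prev).one_mem, by simp [h2]⟩
        · obtain ⟨g, hg, hgb⟩ := ih _ (by rw [← hd]; exact h2) _ h1 rfl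
          refine ⟨s (p.ll (L.T.get t)) * g, (fixer ρ prev).mul_mem ?_ hg, ?_⟩
          · intro β hβ
            rw [rho_s h hρ h3 (h4 β hβ).1]; exact (h4 β hβ).2
          · rw [map_mul, Equiv.Perm.mul_apply, hgb, rho_s h hρ h3 (hspec _ h1).1, h5]
    exact fun t ht => key _ t ht rfl

end PTab

end Cfsg.Agent.Lib.Helper40.PE
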