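/-
helper40: exact order, equality test on base points, trivial centre.
-/
import Cfsg.Agent.Lib.Helper40.PresLower

set_option autoImplicit false

namespace Cfsg.Agent.Lib.Helper40.PE

section

variable {Γ : Type*} [Group Γ] {ρ : Γ →* Equiv.Perm ℕ} {base : List ℕ} {U : ℕ}

theorem order_of_bounds (hfin : Finite Γ) (hub : Nat.card Γ ≤ U)
    (hlb : U * Nat.card (fixer ρ base) ≤ Nat.card Γ) (hU : 0 < U) :
    Nat.card Γ = U ∧ fixer ρ base = ⊥ := by
  have h1 : 0 < Nat.card (fixer ρ base) := Nat.card_pos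
  have h2 : U * Nat.card (fixer ρ base) ≤ U * 1 := by rw [mul_one]; exact hlb.trans hub
  have h3 : Nat.card (fixer ρ base) ≤ 1 := Nat.le_of_mul_le_mul_left h2 hU
  have h4 : Nat.card (fixer ρ base) = 1 := by omega
  rw [h4, mul_one] at hlb
  exact ⟨le_antisymm hub hlb, Subgroup.card_eq_one.mp h4⟩

theorem eq_of_base (hbot : fixer ρ base = ⊥) {g g' : Γ} (h : ∀ b ∈ base, ρ g b = ρ g' b) :
    g = g' := by
  have h1 : g'⁻¹ * g ∈ fixer ρ base := by
    intro b hb
    rw [map_mul, Equiv.Perm.mul_apply, h b hb, map_inv]; simp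
  rw [hbot, Subgroup.mem_bot] at h1
  exact (inv_mul_eq_one.mp h1).symm

end

namespace PTab

variable {p : PTab} {B : List (List ℕ)} {Γ : Type*} [Group Γ] {s : ℕ → Γ}
  {ρ : Γ →* Equiv.Perm ℕ} {base : List ℕ}

theorem rho_wp_apply (h : p.Good B) (hρ : ∀ k < p.A, ρ (s k) = sig h k) (w : List ℕ)
    (hw : ∀ k ∈ w, k < p.A) (x : ℕ) (hx : x < p.N) : ρ (wp s w) x = p.walk w.reverse x := by
  rw [rho_wp h hρ w hw]
  have := wp_sig_apply h w.reverse x
  rw [List.reverse_reverse] at this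
  rw [this, appL_fn h.ok w.reverse (fun k hk => hw k (List.mem_reverse.mp hk)) x hx]

/-- word identities are checked on the base points -/
theorem wp_eq_of_base (h : p.Good B) (hρ : ∀ k < p.A, ρ (s k) = sig h k)
    (hbot : fixer ρ base = ⊥) (hb : ∀ b ∈ base, b < p.N) (w w' : List ℕ)
    (hw : ∀ k ∈ w, k < p.A) (hw' : ∀ k ∈ w', k < p.A)
    (hchk : allL (fun b => Nat.beq (p.walk w.reverse b) (p.walk w'.reverse b)) base = true) :
    wp s w = wp s w' := by
  apply eq_of_base hbot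
  intro b hbb
  rw [rho_wp_apply h hρ w hw b (hb b hbb), rho_wp_apply h hρ w' hw' b (hb b hbb)]
  exact beq_iff'.mp (allL_iff.mp hchk b hbb)

theorem rho_lt (h : p.Good B) (hρ : ∀ k < p.A, ρ (s k) = sig h k) (htop : pre s p.A = ⊤) (g : Γ)
    (x : ℕ) (hx : x < p.N) : ρ g x < p.N := by
  have key : ∀ g ∈ pre s p.A, (∀ x < p.N, ρ g x < p.N) ∧ (∀ x < p.N, ρ g⁻¹ x < p.N) := by
    intro g hg
    induction hg using Subgroup.closure_induction with
    | mem y hy =>
      obtain ⟨k, hk, rfl⟩ := hy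
      have e : ρ (s k)⁻¹ = sig h k := by
        rw [map_inv, hρ k hk]
        exact (eq_inv_of_mul_eq_one_left (sig_invol h k)).symm
      rw [e, hρ k hk]
      exact ⟨fun x hx => fn_lt h.ok k x hx, fun x hx => fn_lt h.ok k x hx⟩
    | one => simp
    | mul a b _ _ ha hb =>
      constructor
      · intro x hx; rw [map_mul]; exact ha.1 _ (hb.1 x hx)
      · intro x hx; rw [mul_inv_rev, map_mul]; exact hb.2 _ (ha.2 x hx)
    | inv a _ ha => exact ⟨ha.2, by rw [inv_inv]; exact ha.1⟩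
  exact (key g (by rw [htop]; trivial)).1 x hx

/-- some letter `< A'` moves the point `x` -/
noncomputable def movOK (p : PTab) (A' x : ℕ) : Bool :=
  bsel (allB (fun k => Nat.beq (p.pe x k) x) A') false true

theorem center_trivial (h : p.Good B) (hρ : ∀ k < p.A, ρ (s k) = sig h k)
    (hbot : fixer ρ base = ⊥) (hb : ∀ b ∈ base, b < p.N) (htop : pre s p.A = ⊤) (hN : 0 < p.N)
    {A' : ℕ} (hA' : A' ≤ p.A) (hfix0 : ∀ k < A', p.pe 0 k = 0)
    (hmov : ∀ x, 1 ≤ x → x < p.N → p.movOK A' x = true)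
    (htrans : ∀ x < p.N, ∃ g, ρ g 0 = x) (z : Γ) (hz : ∀ g, g * z = z * g) : z = 1 := by
  have h0 : ρ z 0 = 0 := by
    by_contra hne
    have hlt := rho_lt h hρ htop z 0 hN
    have h1 := hmov (ρ z 0) (Nat.one_le_iff_ne_zero.mpr hne) hlt
    have h2 : allB (fun k => Nat.beq (p.pe (ρ z 0) k) (ρ z 0)) A' = true := by
      rw [allB_iff]
      intro k hk
      rw [beq_iff', ← rho_s h hρ (lt_of_lt_of_le hk hA') hlt, ← Equiv.Perm.mul_apply, ← map_mul,
        hz, map_mul, Equiv.Perm.mul_apply, rho_s h hρ (lt_of_lt_of_le hk hA') hN, hfix0 k hk]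
    rw [movOK, h2] at h1
    exact absurd h1 (by simp)
  have h1 : z ∈ fixer ρ base := by
    intro b hbb
    obtain ⟨g, hg⟩ := htrans b (hb b hbb)
    rw [← hg, ← Equiv.Perm.mul_apply, ← map_mul, ← hz, map_mul, Equiv.Perm.mul_apply, h0]
  rw [hbot, Subgroup.mem_bot] at h1
  exact h1

end PTab

end Cfsg.Agent.Lib.Helper40.PE
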