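/-
helper40: primitivity of a rank 3 coset action, Iwasawa structures from a class of involutions,
perfectness, trivial centre.
-/
import Cfsg.Agent.Lib.Helper40.PresLower
import Cfsg.Agent.Lib.Helper40.PresRank3

set_option autoImplicit false

namespace Cfsg.Agent.Lib.Helper40.PE

open MulAction
open scoped Pointwise

section Prim

variable {G : Type*} [Group G] {ρ : G →* Equiv.Perm ℕ} {H : Subgroup G} {N n1 : ℕ}

theorem interval_sub {S : Set ℕ} (hS : ∀ h ∈ H, ∀ x ∈ S, ρ h x ∈ S) {lo hi : ℕ}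
    (hreach : ∀ x, lo ≤ x → x < hi → ∃ h ∈ H, ρ h lo = x) {x : ℕ} (hx : x ∈ S) (h1 : lo ≤ x)
    (h2 : x < hi) : Set.Ico lo hi ⊆ S := by
  rintro y ⟨hy1, hy2⟩
  obtain ⟨a, ha, hax⟩ := hreach x h1 h2
  obtain ⟨b, hb, hby⟩ := hreach y hy1 hy2
  have : ρ (b * a⁻¹) x = y := by
    rw [map_mul, Equiv.Perm.mul_apply, map_inv, ← hax]
    simp [hby]
  rw [← this]
  exact hS _ (H.mul_mem hb (H.inv_mem ha)) x hx

theorem preprimitive_of_rank3 (hfix : ∀ h ∈ H, ρ h 0 = 0) (hidx : H.index = N)
    (hinj : Function.Injective (ev hfix)) (hlt : ∀ q, ev hfix q < N)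
    (h1 : 1 < n1) (h2 : n1 < N)
    (t1 : ∀ x, 1 ≤ x → x < n1 → ∃ h ∈ H, ρ h 1 = x)
    (t2 : ∀ x, n1 ≤ x → x < N → ∃ h ∈ H, ρ h n1 = x)
    (d1 : ¬ n1 ∣ N) (d2 : ¬ (1 + (N - n1)) ∣ N) : IsPreprimitive G (G ⧸ H) := by
  have hcard : Nat.card (G ⧸ H) = N := hidx
  have hfin : Finite (G ⧸ H) := Nat.finite_of_card_ne_zero (by omega)
  apply IsPreprimitive.of_isTrivialBlock_base ((1 : G) : G ⧸ H)
  intro B ha hB
  set S : Set ℕ := ev hfix '' B with hSdef
  have h0 : (0 : ℕ) ∈ S := ⟨_, ha, by rw [ev_mk]; simp⟩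
  have hSN : ∀ x ∈ S, x < N := by
    rintro _ ⟨q, -, rfl⟩; exact hlt q
  have hS : ∀ h ∈ H, ∀ x ∈ S, ρ h x ∈ S := by
    rintro h hh _ ⟨q, hq, rfl⟩
    have h3 : h • ((1 : G) : G ⧸ H) = ((1 : G) : G ⧸ H) := by
      rw [MulAction.Quotient.smul_mk, smul_eq_mul, mul_one]
      have := QuotientGroup.mk_mul_of_mem (s := H) 1 hh
      rwa [one_mul] at this
    have h4 : h • B = B := hB.smul_eq_of_mem ha (by rw [h3]; exact ha)
    refine ⟨h • q, ?_, ev_smul hfix h q⟩
    rw [← h4]; exact Set.smul_mem_smul_set hq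
  have hncard : B.ncard = S.ncard := (Set.ncard_image_of_injective B hinj).symm
  have hdvd : S.ncard ∣ N := by
    rw [← hncard, ← hcard]; exact hB.ncard_dvd_card ⟨_, ha⟩
  by_cases c1 : ∃ x ∈ S, 1 ≤ x ∧ x < n1
  · obtain ⟨x, hx, hx1, hx2⟩ := c1
    have s1 := interval_sub hS t1 hx hx1 hx2
    by_cases c2 : ∃ x ∈ S, n1 ≤ x ∧ x < N
    · obtain ⟨y, hy, hy1, hy2⟩ := c2
      have s2 := interval_sub hS t2 hy hy1 hy2
      right
      have hall : S.ncard = N := by
        have : S = Set.Ico 0 N := by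
          ext z
          constructor
          · intro hz; exact ⟨Nat.zero_le _, hSN z hz⟩
          · rintro ⟨-, hz⟩
            rcases Nat.lt_or_ge z 1 with h | h
            · have : z = 0 := by omega
              rw [this]; exact h0
            rcases Nat.lt_or_ge z n1 with h' | h'
            · exact s1 ⟨h, h'⟩
            · exact s2 ⟨h', hz⟩
        rw [this]; simp [Set.ncard_eq_toFinset_card']
      rw [Set.eq_univ_iff_ncard, hncard, hall, hcard]
    · exfalso
      apply d1
      have : S = Set.Ico 0 n1 := by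
        ext z
        constructor
        · intro hz
          refine ⟨Nat.zero_le _, ?_⟩
          by_contra hc
          exact c2 ⟨z, hz, by omega, hSN z hz⟩
        · rintro ⟨-, hz⟩
          rcases Nat.lt_or_ge z 1 with h | h
          · have : z = 0 := by omega
            rw [this]; exact h0
          · exact s1 ⟨h, hz⟩
      rw [this] at hdvd
      simpa [Set.ncard_eq_toFinset_card'] using hdvd
  · by_cases c2 : ∃ x ∈ S, n1 ≤ x ∧ x < N
    · obtain ⟨y, hy, hy1, hy2⟩ := c2
      have s2 := interval_sub hS t2 hy hy1 hy2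
      exfalso
      apply d2
      have : S = insert 0 (Set.Ico n1 N) := by
        ext z
        constructor
        · intro hz
          rcases Nat.lt_or_ge z 1 with h | h
          · left; omega
          · right
            refine ⟨?_, hSN z hz⟩
            by_contra hc
            exact c1 ⟨z, hz, h, by omega⟩
        · rintro (hz | hz)
          · rw [hz]; exact h0
          · exact s2 hz
      rw [this, Set.ncard_insert_of_notMem (by simp; omega) (Set.finite_Ico _ _)] at hdvd
      have e : (Set.Ico n1 N).ncard = N - n1 := by simp [Set.ncard_eq_toFinset_card']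
      rw [e, add_comm] at hdvd
      exact hdvd
    · left
      intro q hq q' hq'
      apply hinj
      have key : ∀ q ∈ B, ev hfix q = 0 := by
        intro q hq
        have hz : ev hfix q ∈ S := ⟨q, hq, rfl⟩
        by_contra hne
        rcases Nat.lt_or_ge (ev hfix q) n1 with h | h
        · exact c1 ⟨_, hz, by omega, h⟩
        · exact c2 ⟨_, hz, h, hSN _ hz⟩
      rw [key q hq, key q' hq']

end Prim

section Iwasawa

variable {G : Type*} [Group G] {H : Subgroup G} {t0 : G}

/-- the conjugate of `t0` attached to a coset of `H ≤ C(t0)` -/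
def tau (hc : ∀ h ∈ H, h * t0 = t0 * h) (q : G ⧸ H) : G :=
  Quotient.liftOn' q (fun a => a * t0 * a⁻¹) (by
    intro a b hab
    have h1 : a⁻¹ * b ∈ H := QuotientGroup.leftRel_apply.mp hab
    have h2 := hc _ h1
    show a * t0 * a⁻¹ = b * t0 * b⁻¹
    have h3 : b = a * (a⁻¹ * b) := by group
    rw [h3]
    generalize a⁻¹ * b = c at h2
    calc a * t0 * a⁻¹ = a * (t0 * c) * c⁻¹ * a⁻¹ := by group
      _ = a * (c * t0) * c⁻¹ * a⁻¹ := by rw [h2]
      _ = a * c * t0 * (a * c)⁻¹ := by group)

theorem tau_mk (hc : ∀ h ∈ H, h * t0 = t0 * h) (a : G) : tau hc (a : G ⧸ H) = a * t0 * a⁻¹ := rfl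

theorem conj_smul_zpowers (g x : G) :
    MulAut.conj g • Subgroup.zpowers x = Subgroup.zpowers (g * x * g⁻¹) := by
  ext y
  rw [Subgroup.mem_pointwise_smul_iff_inv_smul_mem, Subgroup.mem_zpowers_iff,
    Subgroup.mem_zpowers_iff]
  have e : (MulAut.conj g)⁻¹ • y = g⁻¹ * y * g := by
    simp [MulAut.smul_def]
  rw [e]
  constructor
  · rintro ⟨k, hk⟩
    refine ⟨k, ?_⟩
    rw [conj_zpow, hk]; group
  · rintro ⟨k, hk⟩
    refine ⟨k, ?_⟩
    rw [← hk, conj_zpow]; group

/-- the Iwasawa structure given by the conjugates of `t0` -/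
def iwasawa (hc : ∀ h ∈ H, h * t0 = t0 * h)
    (hgen : Subgroup.closure {x | ∃ a : G, x = a * t0 * a⁻¹} = ⊤) : IwasawaStructure G (G ⧸ H) where
  T := fun q => Subgroup.zpowers (tau hc q)
  is_comm := fun _ => inferInstance
  is_conj := by
    intro g q
    obtain ⟨a, rfl⟩ := QuotientGroup.mk_surjective q
    rw [MulAction.Quotient.smul_mk, tau_mk, tau_mk, conj_smul_zpowers, smul_eq_mul]
    congr 1
    group
  is_generator := by
    rw [eq_top_iff, ← hgen, Subgroup.closure_le]
    rintro _ ⟨a, rfl⟩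
    apply Subgroup.mem_iSup_of_mem (a : G ⧸ H)
    rw [tau_mk]
    exact Subgroup.mem_zpowers _

/-- if the centre is trivial the action on the cosets of `H ≤ C(t0)` is faithful -/
theorem faithful_of_center (hc : ∀ h ∈ H, h * t0 = t0 * h)
    (hgen : Subgroup.closure {x | ∃ a : G, x = a * t0 * a⁻¹} = ⊤)
    (hZ : ∀ z : G, (∀ g, g * z = z * g) → z = 1) : FaithfulSMul G (G ⧸ H) := by
  have key : ∀ g : G, (∀ q : G ⧸ H, g • q = q) → g = 1 := by
    intro g hg
    apply hZ
    have h1 : ∀ x ∈ Subgroup.closure {x | ∃ a : G, x = a * t0 * a⁻¹}, x * g = g * x := by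
      intro x hx
      induction hx using Subgroup.closure_induction with
      | mem x hx =>
        obtain ⟨a, rfl⟩ := hx
        have h2 := hg (a : G ⧸ H)
        rw [MulAction.Quotient.smul_mk, smul_eq_mul] at h2
        have h3 : a⁻¹ * (g * a) ∈ H := QuotientGroup.eq.mp h2.symm
        have h4 := hc _ h3
        calc a * t0 * a⁻¹ * g = a * (t0 * (a⁻¹ * (g * a))) * a⁻¹ := by group
          _ = a * ((a⁻¹ * (g * a)) * t0) * a⁻¹ := by rw [h4]
          _ = g * (a * t0 * a⁻¹) := by group
      | one => simp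
      | mul x y _ _ hx hy => rw [mul_assoc, hy, ← mul_assoc, hx, mul_assoc]
      | inv x _ hx =>
        calc x⁻¹ * g = x⁻¹ * (g * x) * x⁻¹ := by group
          _ = x⁻¹ * (x * g) * x⁻¹ := by rw [hx]
          _ = g * x⁻¹ := by group
    intro x
    exact h1 x (by rw [hgen]; trivial)
  constructor
  intro g g' h
  have : g'⁻¹ * g = 1 := key _ fun q => by rw [mul_smul, h q, inv_smul_smul]
  exact (inv_mul_eq_one.mp this).symm

end Iwasawa

section Gens

variable {G : Type*} [Group G] {s : ℕ → G}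

/-- braid relation: adjacent generators are conjugate -/
theorem conj_of_braid {i j : ℕ} (hi : s i * s i = 1) (hj : s j * s j = 1)
    (h : (s i * s j) ^ 3 = 1) : s j = (s i * s j) * s i * (s i * s j)⁻¹ := by
  have h1 : (s i)⁻¹ = s i := (eq_inv_of_mul_eq_one_left hi).symm
  have h2 : (s j)⁻¹ = s j := (eq_inv_of_mul_eq_one_left hj).symm
  have h3 : s i * s j * (s i * s j) * (s i * s j) = 1 := by
    rw [← h]; simp [pow_succ]
  rw [mul_inv_rev, h1, h2]
  -- s j = s i s j s i s j s i
  have h4 : s i * s j * s i * (s j * s i) * s j = 1 := by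
    rw [← h3]; group
  calc s j = (s i * s j * s i * (s j * s i) * s j) * s j := by rw [h4, one_mul]
    _ = s i * s j * s i * (s j * s i) * (s j * s j) := by group
    _ = s i * s j * s i * (s j * s i) := by rw [hj, mul_one]

/-- being conjugate to `t0` propagates along the edges of the diagram -/
theorem conj_step {t0 : G} {i j : ℕ} (hi : s i * s i = 1) (hj : s j * s j = 1)
    (h : (s i * s j) ^ 3 = 1) (hc : ∃ a : G, s i = a * t0 * a⁻¹) : ∃ a : G, s j = a * t0 * a⁻¹ := by
  obtain ⟨a, ha⟩ := hc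
  refine ⟨s i * s j * a, ?_⟩
  calc s j = s i * s j * s i * (s i * s j)⁻¹ := conj_of_braid hi hj h
    _ = s i * s j * (a * t0 * a⁻¹) * (s i * s j)⁻¹ := by rw [← ha]
    _ = s i * s j * a * t0 * (s i * s j * a)⁻¹ := by group

theorem closure_conj_top {t0 : G} {A : ℕ} (htop : pre s A = ⊤)
    (h : ∀ k < A, ∃ a : G, s k = a * t0 * a⁻¹) :
    Subgroup.closure {x | ∃ a : G, x = a * t0 * a⁻¹} = ⊤ := by
  rw [eq_top_iff, ← htop]
  apply Subgroup.closure_mono
  rintro _ ⟨k, hk, rfl⟩
  exact h k hk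

/-- in the abelianisation adjacent generators coincide -/
theorem ab_eq {i j : ℕ} (hi : s i * s i = 1) (hj : s j * s j = 1) (h : (s i * s j) ^ 3 = 1) :
    Abelianization.of (s i) = Abelianization.of (s j) := by
  have h1 := congrArg Abelianization.of h
  have hi' := congrArg Abelianization.of hi
  have hj' := congrArg Abelianization.of hj
  simp only [map_pow, map_mul, map_one] at h1 hi' hj'
  generalize Abelianization.of (s i) = x at *
  generalize Abelianization.of (s j) = y at *
  have h2 : (x * y) ^ 3 = (x * x) * (y * y) * (x * y) := by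
    rw [mul_pow]; simp only [pow_succ, pow_zero, one_mul]
    rw [mul_mul_mul_comm]
  rw [h2, hi', hj', one_mul, one_mul] at h1
  calc x = x * (y * y) := by rw [hj', mul_one]
    _ = (x * y) * y := by rw [mul_assoc]
    _ = y := by rw [h1, one_mul]

theorem perfect_of_ab {A : ℕ} (htop : pre s A = ⊤)
    (h : ∀ k < A, Abelianization.of (s k) = 1) : commutator G = ⊤ := by
  rw [← Abelianization.ker_of, eq_top_iff, ← htop, pre, Subgroup.closure_le]
  rintro _ ⟨k, hk, rfl⟩
  exact h k hk

end Gens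

end Cfsg.Agent.Lib.Helper40.PE
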