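/-
helper40: the data of a rank 3 coset action, in the form needed for primitivity.
-/
import Cfsg.Agent.Lib.Helper40.PresSimple

set_option autoImplicit false

namespace Cfsg.Agent.Lib.Helper40.PE

variable {G : Type*} [Group G] {s : ℕ → G} {p : PTab} {B Sw : List (List ℕ)}
  {ρ : G →* Equiv.Perm ℕ}

theorem rank3_trans (hgood : p.Good B) (hρ : ∀ k < p.A, ρ (s k) = PTab.sig hgood k)
    (hSw : ∀ w ∈ Sw, ∀ k ∈ w, k < p.A) {n1 : ℕ} (h1 : 1 < n1) (h2 : n1 < p.N)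
    (o1 : ∀ x, 1 ≤ x → x < n1 → p.orbOK Sw 1 n1 x = true)
    (o2 : ∀ x, n1 ≤ x → x < p.N → p.orbOK Sw n1 p.N x = true)
    (w1 w2 : List ℕ) (hw1 : ∀ k ∈ w1, k < p.A) (hw2 : ∀ k ∈ w2, k < p.A)
    (r1 : p.walk w1 0 = 1) (r2 : p.walk w2 0 = n1) : ∀ x < p.N, ∃ g, ρ g 0 = x := by
  obtain ⟨-, t1⟩ := PTab.orb_spec (s := s) hgood hρ hSw (by omega) o1
  obtain ⟨-, t2⟩ := PTab.orb_spec (s := s) hgood hρ hSw le_rfl o2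
  have e1 : ρ (wp s w1)⁻¹ 0 = 1 := by rw [PTab.rho_wp_inv hgood hρ w1 hw1 0 (by omega), r1]
  have e2 : ρ (wp s w2)⁻¹ 0 = n1 := by rw [PTab.rho_wp_inv hgood hρ w2 hw2 0 (by omega), r2]
  intro x hx
  rcases Nat.lt_or_ge x 1 with h | h
  · exact ⟨1, by simp; omega⟩
  rcases Nat.lt_or_ge x n1 with h' | h'
  · obtain ⟨g, -, hg⟩ := t1 x h h'
    exact ⟨g * (wp s w1)⁻¹, by rw [map_mul, Equiv.Perm.mul_apply, e1, hg]⟩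
  · obtain ⟨g, -, hg⟩ := t2 x h' hx
    exact ⟨g * (wp s w2)⁻¹, by rw [map_mul, Equiv.Perm.mul_apply, e2, hg]⟩

theorem rank3_prim (hgood : p.Good B) (hρ : ∀ k < p.A, ρ (s k) = PTab.sig hgood k)
    (hSw : ∀ w ∈ Sw, ∀ k ∈ w, k < p.A)
    (hub : Finite (G ⧸ Hs s Sw) ∧ Nat.card (G ⧸ Hs s Sw) ≤ p.N) {n1 : ℕ} (h1 : 1 < n1)
    (h2 : n1 < p.N)
    (o0 : ∀ x, 0 ≤ x → x < 1 → p.orbOK Sw 0 1 x = true)
    (o1 : ∀ x, 1 ≤ x → x < n1 → p.orbOK Sw 1 n1 x = true)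
    (o2 : ∀ x, n1 ≤ x → x < p.N → p.orbOK Sw n1 p.N x = true)
    (w1 w2 : List ℕ) (hw1 : ∀ k ∈ w1, k < p.A) (hw2 : ∀ k ∈ w2, k < p.A)
    (r1 : p.walk w1 0 = 1) (r2 : p.walk w2 0 = n1)
    (d1 : ¬ n1 ∣ p.N) (d2 : ¬ (1 + (p.N - n1)) ∣ p.N) :
    MulAction.IsPreprimitive G (G ⧸ Hs s Sw) := by
  obtain ⟨m0, -⟩ := PTab.orb_spec (s := s) hgood hρ hSw (by omega) o0
  obtain ⟨-, t1⟩ := PTab.orb_spec (s := s) hgood hρ hSw (by omega) o1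
  obtain ⟨-, t2⟩ := PTab.orb_spec (s := s) hgood hρ hSw le_rfl o2
  have hfix := fix_of_orb m0
  have htrans := rank3_trans (s := s) hgood hρ hSw h1 h2 o1 o2 w1 w2 hw1 hw2 r1 r2
  obtain ⟨hidx, hinj, hlt⟩ := index_of_bounds hub hfix htrans
  exact preprimitive_of_rank3 hfix hidx hinj hlt h1 h2 t1 t2 d1 d2

end Cfsg.Agent.Lib.Helper40.PE
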