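/-
helper40: classes of 3-transpositions from a rank 3 coset action; transport of non-split double covers.
-/
import Cfsg.Agent.Lib.Helper40.PresRank3b
import Cfsg.Agent.Lib.Helper40.PresOrder
import Cfsg.Prelude.Def_SporadicB

set_option autoImplicit false

namespace Cfsg.Agent.Lib.Helper40.PE

open MulAction
open scoped Pointwise

section Cover

variable {H H' K : Type*} [Group H] [Group H'] [Group K]

theorem map_center_equiv (e : H ≃* H') :
    (Subgroup.center H).map e.toMonoidHom = Subgroup.center H' := by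
  ext x
  simp only [Subgroup.mem_map, Subgroup.mem_center_iff]
  constructor
  · rintro ⟨y, hy, rfl⟩ g
    obtain ⟨g', rfl⟩ := e.surjective g
    show e g' * e y = e y * e g'
    rw [← map_mul, ← map_mul, hy]
  · intro hx
    refine ⟨e.symm x, fun g => ?_, by simp⟩
    apply e.injective
    rw [map_mul, map_mul, e.apply_symm_apply, hx]

/-- non-split double covers can be transported along isomorphisms -/
theorem nonsplit_congr (e : H ≃* H') (h : Cfsg.IsNonsplitDoubleCover H K) :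
    Cfsg.IsNonsplitDoubleCover H' K := by
  obtain ⟨h1, ⟨f⟩, h3⟩ := h
  refine ⟨?_, ⟨?_⟩, ?_⟩
  · rw [← h1]
    exact Nat.card_congr (Subgroup.centerCongr e).symm.toEquiv
  · exact (QuotientGroup.congr _ _ e (map_center_equiv e)).symm.trans f
  · intro L hL
    apply h3 (L.comap e.toMonoidHom)
    have hd := hL.disjoint
    have hs := hL.sup_eq_top
    apply Subgroup.isComplement'_of_disjoint_and_mul_eq_univ
    · rw [Subgroup.disjoint_def] at hd ⊢
      intro x hx hxL
      apply e.injective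
      rw [map_one]
      apply hd _ hxL
      rw [← map_center_equiv e]
      exact ⟨x, hx, rfl⟩
    · rw [Set.eq_univ_iff_forall]
      intro x
      have hx : e x ∈ Subgroup.center H' ⊔ L := by rw [hs]; trivial
      rw [← SetLike.mem_coe, Subgroup.normal_mul] at hx
      obtain ⟨a, ha, b, hb, hab⟩ := hx
      refine ⟨e.symm a, ?_, e.symm b, ?_, ?_⟩
      · rw [← map_center_equiv e] at ha
        obtain ⟨y, hy, rfl⟩ := ha
        simpa using hy
      · show e (e.symm b) ∈ L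
        simpa using hb
      · apply e.injective
        simpa using hab

end Cover

section Cent

variable {G : Type*} [Group G]

/-- centralisers of conjugate elements are isomorphic -/
noncomputable def centralizerConj (a t : G) :
    Subgroup.centralizer ({t} : Set G) ≃* Subgroup.centralizer ({a * t * a⁻¹} : Set G) :=
  ((MulAut.conj a).subgroupMap (Subgroup.centralizer ({t} : Set G))).trans
    (MulEquiv.subgroupCongr (by
      ext x
      simp only [Subgroup.mem_map, Subgroup.mem_centralizer_singleton_iff]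
      constructor
      · rintro ⟨y, hy, rfl⟩
        show (a * y * a⁻¹) * (a * t * a⁻¹) = (a * t * a⁻¹) * (a * y * a⁻¹)
        calc (a * y * a⁻¹) * (a * t * a⁻¹) = a * (y * t) * a⁻¹ := by group
          _ = a * (t * y) * a⁻¹ := by rw [hy]
          _ = _ := by group
      · intro hx
        refine ⟨a⁻¹ * x * a, ?_, ?_⟩
        · calc a⁻¹ * x * a * t = a⁻¹ * (x * (a * t * a⁻¹)) * a := by group
            _ = a⁻¹ * ((a * t * a⁻¹) * x) * a := by rw [hx]
            _ = _ := by group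
        · show a * (a⁻¹ * x * a) * a⁻¹ = x
          group))

end Cent

section Transp

variable {G : Type*} [Group G] {H : Subgroup G} {t0 : G}

theorem dc_of_rank3 {ρ : G →* Equiv.Perm ℕ} {N n1 : ℕ} (hfix : ∀ h ∈ H, ρ h 0 = 0)
    (hinj : Function.Injective (ev hfix)) (hlt : ∀ q, ev hfix q < N)
    (t1 : ∀ x, 1 ≤ x → x < n1 → ∃ h ∈ H, ρ h 1 = x)
    (t2 : ∀ x, n1 ≤ x → x < N → ∃ h ∈ H, ρ h n1 = x)
    {r1 r2 : G} (e1 : ρ r1 0 = 1) (e2 : ρ r2 0 = n1) (c : G) :
    (c : G ⧸ H) = ((1 : G) : G ⧸ H) ∨ (∃ h ∈ H, (c : G ⧸ H) = ((h * r1 : G) : G ⧸ H)) ∨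
      (∃ h ∈ H, (c : G ⧸ H) = ((h * r2 : G) : G ⧸ H)) := by
  have hx := hlt (c : G ⧸ H)
  rw [ev_mk] at hx
  rcases Nat.lt_or_ge (ρ c 0) 1 with h | h
  · left
    apply hinj
    rw [ev_mk, ev_mk, map_one]
    simp; omega
  rcases Nat.lt_or_ge (ρ c 0) n1 with h' | h'
  · right; left
    obtain ⟨g, hg, hg1⟩ := t1 _ h h'
    refine ⟨g, hg, hinj ?_⟩
    rw [ev_mk, ev_mk, map_mul, Equiv.Perm.mul_apply, e1, hg1]
  · right; right
    obtain ⟨g, hg, hg1⟩ := t2 _ h' hx
    refine ⟨g, hg, hinj ?_⟩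
    rw [ev_mk, ev_mk, map_mul, Equiv.Perm.mul_apply, e2, hg1]

theorem transp_of_dc (hc : ∀ h ∈ H, h * t0 = t0 * h) (ht : t0 * t0 = 1) {r1 r2 : G}
    (hdc : ∀ c : G, (c : G ⧸ H) = ((1 : G) : G ⧸ H) ∨
      (∃ h ∈ H, (c : G ⧸ H) = ((h * r1 : G) : G ⧸ H)) ∨
      (∃ h ∈ H, (c : G ⧸ H) = ((h * r2 : G) : G ⧸ H)))
    (h1 : (t0 * (r1 * t0 * r1⁻¹)) ^ 3 = 1) (h2 : (t0 * (r2 * t0 * r2⁻¹)) ^ 2 = 1) :
    ∀ d ∈ conjugatesOf t0, ∀ e ∈ conjugatesOf t0, (d * e) ^ 2 = 1 ∨ (d * e) ^ 3 = 1 := by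
  intro d hd e he
  obtain ⟨a, rfl⟩ := isConj_iff.mp (show IsConj t0 d from hd)
  obtain ⟨b, rfl⟩ := isConj_iff.mp (show IsConj t0 e from he)
  have e0 : a * t0 * a⁻¹ * (b * t0 * b⁻¹) = a * (t0 * tau hc ((a⁻¹ * b : G) : G ⧸ H)) * a⁻¹ := by
    rw [tau_mk]; group
  have key : ∀ h ∈ H, ∀ r : G, t0 * tau hc ((h * r : G) : G ⧸ H)
      = h * (t0 * (r * t0 * r⁻¹)) * h⁻¹ := by
    intro h hh r
    rw [tau_mk]
    calc t0 * (h * r * t0 * (h * r)⁻¹) = (t0 * h) * (r * t0 * r⁻¹) * h⁻¹ := by group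
      _ = (h * t0) * (r * t0 * r⁻¹) * h⁻¹ := by rw [hc h hh]
      _ = _ := by group
  rw [e0, conj_pow, conj_pow]
  rcases hdc (a⁻¹ * b) with h | ⟨h, hh, h'⟩ | ⟨h, hh, h'⟩
  · left
    rw [h, tau_mk]
    simp [ht]
  · right
    rw [h', key h hh, conj_pow, h1]
    simp
  · left
    rw [h', key h hh, conj_pow, h2]
    simp

theorem centralizer_eq (hc : ∀ h ∈ H, h * t0 = t0 * h) [IsPreprimitive G (G ⧸ H)]
    (hH : H ≠ ⊤) (hZ : ∀ z : G, (∀ g, g * z = z * g) → z = 1) (ht : t0 ≠ 1) :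
    Subgroup.centralizer ({t0} : Set G) = H := by
  have : Nontrivial (G ⧸ H) := by
    obtain ⟨g, -, hg⟩ := SetLike.exists_of_lt (lt_top_iff_ne_top.mpr hH)
    refine ⟨(g : G ⧸ H), ((1 : G) : G ⧸ H), fun h => hg ?_⟩
    have := QuotientGroup.eq.mp h.symm
    simpa using this
  have hco : IsCoatom H := by
    have := (isCoatom_stabilizer_iff_preprimitive (G := G) (((1 : G) : G ⧸ H))).mpr inferInstance
    rwa [show stabilizer G (((1 : G) : G ⧸ H)) = H from stabilizer_quotient H] at this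
  have hle : H ≤ Subgroup.centralizer ({t0} : Set G) := by
    intro h hh
    rw [Subgroup.mem_centralizer_singleton_iff]
    exact hc h hh
  rcases hco.le_iff.mp hle with h | h
  · exfalso
    apply ht
    apply hZ
    intro g
    have : g ∈ Subgroup.centralizer ({t0} : Set G) := by rw [h]; trivial
    rwa [Subgroup.mem_centralizer_singleton_iff] at this
  · exact h

theorem card_conjugates (hc : ∀ h ∈ H, h * t0 = t0 * h)
    (hC : Subgroup.centralizer ({t0} : Set G) = H) : Nat.card (conjugatesOf t0) = H.index := by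
  rw [Subgroup.index]
  symm
  apply Nat.card_congr
  refine Equiv.ofBijective (fun q => ⟨tau hc q, ?_⟩) ⟨?_, ?_⟩
  · obtain ⟨a, rfl⟩ := QuotientGroup.mk_surjective q
    rw [tau_mk]
    exact isConj_iff.mpr ⟨a, rfl⟩
  · intro q q' h
    obtain ⟨a, rfl⟩ := QuotientGroup.mk_surjective q
    obtain ⟨b, rfl⟩ := QuotientGroup.mk_surjective q'
    have h' : a * t0 * a⁻¹ = b * t0 * b⁻¹ := congrArg Subtype.val h
    rw [QuotientGroup.eq, ← hC, Subgroup.mem_centralizer_singleton_iff]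
    calc a⁻¹ * b * t0 = a⁻¹ * (b * t0 * b⁻¹) * b := by group
      _ = a⁻¹ * (a * t0 * a⁻¹) * b := by rw [h']
      _ = _ := by group
  · rintro ⟨x, hx⟩
    obtain ⟨a, rfl⟩ := isConj_iff.mp (show IsConj t0 x from hx)
    exact ⟨(a : G ⧸ H), rfl⟩

end Transp

end Cfsg.Agent.Lib.Helper40.PE
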