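/-
helper40: bridge between `Cfsg.Spor.CoxPresented` and words in numbered generators.
-/
import Cfsg.Prelude.Def_SporCoxeter
import Cfsg.Agent.Lib.Helper40.PresOrb

set_option autoImplicit false

namespace Cfsg.Agent.Lib.Helper40.PE

open Cfsg.Spor

section

variable {α : Type} [DecidableEq α] (edges : List (α × ℕ × α)) (extra : List (FreeGroup α))
  (gen : ℕ → α)

/-- the numbered generators of the presented group -/
def sG (k : ℕ) : CoxPresented α edges extra := PresentedGroup.of (gen k)

theorem sG_cox (i j : ℕ) (hi : gen i ∈ coxNodes edges) (hj : gen j ∈ coxNodes edges) :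
    (sG edges extra gen i * sG edges extra gen j) ^ coxLabel edges (gen i) (gen j) = 1 := by
  have : (FreeGroup.of (gen i) * FreeGroup.of (gen j)) ^ coxLabel edges (gen i) (gen j) ∈
      coxRelators edges ∪ {r | r ∈ extra} := Or.inl ⟨gen i, hi, gen j, hj, rfl⟩
  have h2 := PresentedGroup.one_of_mem this
  rwa [map_pow, map_mul] at h2

theorem mk_extra (r : FreeGroup α) (hr : r ∈ extra) :
    PresentedGroup.mk (coxRelators edges ∪ {r | r ∈ extra}) r = 1 :=
  PresentedGroup.one_of_mem (Or.inr hr)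

theorem pre_sG_top (A : ℕ) (hsurj : ∀ x, ∃ k < A, gen k = x) : pre (sG edges extra gen) A = ⊤ := by
  rw [eq_top_iff, ← PresentedGroup.closure_range_of]
  apply Subgroup.closure_mono
  rintro _ ⟨x, rfl⟩
  obtain ⟨k, hk, rfl⟩ := hsurj x
  exact ⟨k, hk, rfl⟩

/-- a homomorphism out of the presented group -/
theorem exists_hom {P : Type*} [Group P] (σ : ℕ → P) (idx : α → ℕ)
    (hcox : ∀ x ∈ coxNodes edges, ∀ y ∈ coxNodes edges,
      (σ (idx x) * σ (idx y)) ^ coxLabel edges x y = 1)
    (hextra : ∀ r ∈ extra, FreeGroup.lift (fun x => σ (idx x)) r = 1) :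
    ∃ ρ : CoxPresented α edges extra →* P, ∀ x, ρ (PresentedGroup.of x) = σ (idx x) := by
  refine ⟨PresentedGroup.toGroup (f := fun x => σ (idx x)) ?_, fun x => PresentedGroup.toGroup.of _⟩
  rintro r (⟨x, hx, y, hy, rfl⟩ | hr)
  · rw [map_pow, map_mul, FreeGroup.lift_apply_of, FreeGroup.lift_apply_of]
    exact hcox x hx y hy
  · exact hextra r hr

end

end Cfsg.Agent.Lib.Helper40.PE
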