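/-
helper40: the Coxeter labels of the Y-diagrams of the Fischer groups, in the letter order
c d e h f b i g a j l k.
-/
import Cfsg.Agent.Lib.Helper40.PresGroup

set_option autoImplicit false

namespace Cfsg.Agent.Lib.Helper40.PE

/-- adjacency bits (16 i + j) of the diagram Y₅₄₂ in the letter order c d e h f b i g a j l k -/
def adjY : ℕ := 0x500080000800820021000080101008400420012000d0022

/-- the Coxeter label -/
def mY (i j : ℕ) : ℕ :=
  bif Nat.beq i j then 1 else bif Nat.beq (Nat.land (Nat.shiftRight adjY (16 * i + j)) 1) 1 then 3 else 2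

end Cfsg.Agent.Lib.Helper40.PE
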