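/-
helper40: automorphisms of a group generated by an element `b` of prime order `p` (`p ∥ |G|`) and a
3-transposition `t`.
-/
import Mathlib

set_option autoImplicit false

namespace Cfsg.Agent.Lib.Helper40.OutT

variable {G : Type*} [Group G]

/-- the value of a letter -/
def val (b t : G) : ℕ → G
  | 0 => b
  | 1 => b⁻¹
  | _ => t

/-- evaluation of a word in `b`, `b⁻¹`, `t`; the first letter is the rightmost factor -/
def ev (b t : G) : List ℕ → G
  | [] => 1
  | c :: W => ev b t W * val b t c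

theorem map_val {G' : Type*} [Group G'] (α : G →* G') (b t : G) (c : ℕ) :
    α (val b t c) = val (α b) (α t) c := by
  match c with
  | 0 => rfl
  | 1 => exact map_inv α b
  | _ + 2 => rfl

theorem map_ev {G' : Type*} [Group G'] (α : G →* G') (b t : G) (W : List ℕ) :
    α (ev b t W) = ev (α b) (α t) W := by
  induction W with
  | nil => exact map_one α
  | cons c W ih => rw [ev, ev, map_mul, ih, map_val]

theorem val_mem (b t : G) (c : ℕ) : val b t c ∈ Subgroup.closure {b, t} := by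
  match c with
  | 0 => exact Subgroup.subset_closure (Or.inl rfl)
  | 1 => exact Subgroup.inv_mem _ (Subgroup.subset_closure (Or.inl rfl))
  | _ + 2 => exact Subgroup.subset_closure (Or.inr rfl)

theorem ev_mem (b t : G) (W : List ℕ) : ev b t W ∈ Subgroup.closure {b, t} := by
  induction W with
  | nil => exact Subgroup.one_mem _
  | cons c W ih => exact Subgroup.mul_mem _ ih (val_mem b t c)

/-- the test: `t` commutes with its conjugate under `ev b t W` -/
def tst (b t : G) (W : List ℕ) : Prop :=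
  t * (ev b t W * t * (ev b t W)⁻¹) = (ev b t W * t * (ev b t W)⁻¹) * t

theorem tst_map (α : G ≃* G) (b t : G) (W : List ℕ) : tst b t W ↔ tst (α b) (α t) W := by
  unfold tst
  have e : ev (α b) (α t) W = α (ev b t W) := (map_ev α.toMonoidHom b t W).symm
  rw [e]
  constructor
  · intro h
    have := congrArg α h
    simpa using this
  · intro h
    apply α.injective
    simpa using h

/-- elements of prime order `p` (with `p ∥ |G|`): `x` is conjugate to a power of `y`. -/
theorem exists_conj_pow [Finite G] {p : ℕ} [Fact p.Prime] (h2 : ¬ p ^ 2 ∣ Nat.card G) {x y : G}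
    (hx : orderOf x = p) (hy : orderOf y = p) :
    ∃ (k : G) (m : ℕ), 0 < m ∧ m < p ∧ k * x * k⁻¹ = y ^ m := by
  have hp : (Nat.card G).factorization p = 1 := by
    have hpp : p.Prime := Fact.out
    have hn : Nat.card G ≠ 0 := Nat.card_pos.ne'
    have a1 : 1 ≤ (Nat.card G).factorization p := by
      rw [← hpp.pow_dvd_iff_le_factorization hn, pow_one, ← hx]; exact orderOf_dvd_natCard x
    have a2 : ¬ 2 ≤ (Nat.card G).factorization p := by
      rw [← hpp.pow_dvd_iff_le_factorization hn]; exact h2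
    omega
  let P : Sylow p G := Sylow.ofCard (Subgroup.zpowers x) (by rw [hp, Nat.card_zpowers, hx, pow_one])
  let P0 : Sylow p G := Sylow.ofCard (Subgroup.zpowers y) (by rw [hp, Nat.card_zpowers, hy, pow_one])
  obtain ⟨k, hk⟩ := MulAction.exists_smul_eq G P P0
  have h1 := congrArg (fun Q : Sylow p G => (Q : Subgroup G)) hk
  simp only [Sylow.coe_subgroup_smul] at h1
  have h3 : k * x * k⁻¹ ∈ Subgroup.zpowers y := by
    have h4 : (Subgroup.zpowers x).map (MulAut.conj k).toMonoidHom = Subgroup.zpowers y := h1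
    rw [← h4]
    exact ⟨x, Subgroup.mem_zpowers x, rfl⟩
  obtain ⟨i, hi⟩ := Subgroup.mem_zpowers_iff.1 h3
  have hp0 : (0 : ℤ) < p := by exact_mod_cast (Fact.out : p.Prime).pos
  obtain ⟨m, hm⟩ := Int.eq_ofNat_of_zero_le (Int.emod_nonneg i hp0.ne')
  have hmp : m < p := by
    have := Int.emod_lt_of_pos i hp0
    rw [hm] at this
    exact_mod_cast this
  have hi' : y ^ i = y ^ m := by rw [← zpow_mod_orderOf y i, hy, hm, zpow_natCast]
  refine ⟨k, m, ?_, hmp, by rw [← hi', hi]⟩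
  rcases Nat.eq_zero_or_pos m with h0 | h0
  · exfalso
    rw [hi', h0, pow_zero] at hi
    have hx1 : x = 1 := by
      have : k * x * k⁻¹ = 1 := hi.symm
      calc x = k⁻¹ * (k * x * k⁻¹) * k := by group
        _ = 1 := by rw [this]; group
    rw [hx1, orderOf_one] at hx
    exact (Fact.out : p.Prime).one_lt.ne hx
  · exact h0

/-- every automorphism is inner -/
theorem inner_of_setup [Finite G] (p : ℕ) [Fact p.Prime] (b t d1 : G) (hb : orderOf b = p)
    (hp2 : ¬ p ^ 2 ∣ Nat.card G) (hgen : Subgroup.closure {b, t} = ⊤)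
    (H1 : ∀ m, 0 < m → m < p → ∃ x : G, x * b ^ m * x⁻¹ = b)
    (Q : ∀ g : G, (t * (g * t * g⁻¹)) ^ 2 = 1 ∨ (t * (g * t * g⁻¹)) ^ 3 = 1)
    (hd1 : ∃ g : G, d1 = g * t * g⁻¹) (hd1b : d1 * b = b * d1) (ht2 : t * t = 1) (ht1 : t ≠ 1)
    (hinvC : ∀ i : G, i * b = b * i → i * i = 1 → i ≠ 1 → (∃ g : G, i = g * t * g⁻¹) ∨
      ∃ g : G, (i * (g * i * g⁻¹)) ^ 2 ≠ 1 ∧ (i * (g * i * g⁻¹)) ^ 3 ≠ 1)
    (H2 : ∀ t' : G, (∃ g : G, t' = g * t * g⁻¹) → (∀ W, tst b t W ↔ tst b t' W) →
      ∃ u : G, u * b * u⁻¹ = b ∧ u * t * u⁻¹ = t') (α : MulAut G) :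
    ∃ u : G, ∀ x, α x = u * x * u⁻¹ := by
  obtain ⟨k, m, hm0, hmp, hk⟩ := exists_conj_pow hp2 (x := α b) (y := b)
    (by rw [MulEquiv.orderOf_eq, hb]) hb
  obtain ⟨x, hx⟩ := H1 m hm0 hmp
  let β : MulAut G := MulAut.conj (x * k) * α
  have hβ : ∀ g, β g = (x * k) * α g * (x * k)⁻¹ := fun g => rfl
  have hβb : β b = b := by
    rw [hβ]
    calc x * k * α b * (x * k)⁻¹ = x * (k * α b * k⁻¹) * x⁻¹ := by group
      _ = b := by rw [hk, hx]
  obtain ⟨g0, hg0⟩ := hd1
  -- the image of `d1`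
  have hd1sq : d1 * d1 = 1 := by
    rw [hg0]
    calc g0 * t * g0⁻¹ * (g0 * t * g0⁻¹) = g0 * (t * t) * g0⁻¹ := by group
      _ = 1 := by rw [ht2]; group
  have hd1ne : d1 ≠ 1 := by
    intro h
    apply ht1
    calc t = g0⁻¹ * (g0 * t * g0⁻¹) * g0 := by group
      _ = 1 := by rw [← hg0, h]; group
  have Qd : ∀ g : G, (d1 * (g * d1 * g⁻¹)) ^ 2 = 1 ∨ (d1 * (g * d1 * g⁻¹)) ^ 3 = 1 := by
    intro g
    have e : d1 * (g * d1 * g⁻¹) = g0 * (t * ((g0⁻¹ * g * g0) * t * (g0⁻¹ * g * g0)⁻¹)) * g0⁻¹ := by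
      rw [hg0]; group
    rw [e, conj_pow, conj_pow]
    rcases Q (g0⁻¹ * g * g0) with h | h
    · left; rw [h]; group
    · right; rw [h]; group
  have h1 : ∃ g : G, β d1 = g * t * g⁻¹ := by
    rcases hinvC (β d1) (by
        have := congrArg β hd1b
        rwa [map_mul, map_mul, hβb] at this)
      (by rw [← map_mul, hd1sq, map_one]) (fun h => hd1ne (β.injective (by rw [h, map_one]))) with
      h | ⟨g, h2, h3⟩
    · exact h
    · exfalso
      obtain ⟨g', rfl⟩ := β.surjective g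
      have e : β d1 * (β g' * β d1 * (β g')⁻¹) = β (d1 * (g' * d1 * g'⁻¹)) := by simp
      rw [e, ← map_pow] at h2 h3
      rcases Qd g' with h | h
      · exact h2 (by rw [h, map_one])
      · exact h3 (by rw [h, map_one])
  obtain ⟨g1, hg1⟩ := h1
  have h2 : ∃ g : G, β t = g * t * g⁻¹ := by
    refine ⟨(β g0)⁻¹ * g1, ?_⟩
    have e : t = g0⁻¹ * d1 * g0 := by rw [hg0]; group
    calc β t = (β g0)⁻¹ * β d1 * β g0 := by conv_lhs => rw [e]; simp
      _ = (β g0)⁻¹ * g1 * t * ((β g0)⁻¹ * g1)⁻¹ := by rw [hg1]; group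
  obtain ⟨u, hub, hut⟩ := H2 (β t) h2 (fun W => by
    have := tst_map β b t W
    rwa [hβb] at this)
  have hβu : ∀ g, β g = u * g * u⁻¹ := by
    have : β.toMonoidHom = (MulAut.conj u).toMonoidHom := by
      apply MonoidHom.eq_of_eqOn_dense hgen
      rintro g (rfl | hg)
      · exact hβb.trans hub.symm
      · rw [Set.mem_singleton_iff.1 hg]; exact hut.symm
    exact fun g => DFunLike.congr_fun this g
  refine ⟨(x * k)⁻¹ * u, fun g => ?_⟩
  have e : α g = (x * k)⁻¹ * β g * (x * k) := by rw [hβ]; group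
  rw [e, hβu]; group

end Cfsg.Agent.Lib.Helper40.OutT
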