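/-
helper40: a second form of `OutT.inner_of_setup`, where the centraliser of `b` is read off from the
list of the candidates which pass the tests.
-/
import Cfsg.Agent.Lib.Helper40.OutTransp

set_option autoImplicit false

namespace Cfsg.Agent.Lib.Helper40.OutT

variable {G : Type*} [Group G]

theorem comm_all_of_gen {b t z : G} (hgen : Subgroup.closure {b, t} = ⊤) (hzb : b * z = z * b)
    (hzt : t * z = z * t) (g : G) : g * z = z * g := by
  have h1 : Subgroup.closure {b, t} ≤ Subgroup.centralizer {z} := by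
    rw [Subgroup.closure_le]
    rintro x (rfl | hx)
    · rw [SetLike.mem_coe, Subgroup.mem_centralizer_iff]
      intro h hh
      rw [Set.mem_singleton_iff.1 hh]; exact hzb.symm
    · rw [Set.mem_singleton_iff.1 hx, SetLike.mem_coe, Subgroup.mem_centralizer_iff]
      intro h hh
      rw [Set.mem_singleton_iff.1 hh]; exact hzt.symm
  have h2 : g ∈ Subgroup.centralizer {z} := h1 (by rw [hgen]; trivial)
  exact (Subgroup.mem_centralizer_iff.1 h2 z rfl).symm

theorem inner_of_setup2 [Finite G] (p : ℕ) [Fact p.Prime] (hpodd : p ≠ 2) (b t d1 d2 : G)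
    (hb : orderOf b = p) (hp2 : ¬ p ^ 2 ∣ Nat.card G) (hgen : Subgroup.closure {b, t} = ⊤)
    (hZ : ∀ z : G, (∀ g, g * z = z * g) → z = 1)
    (H1 : ∀ m, 0 < m → m < p → ∃ x : G, x * b ^ m * x⁻¹ = b)
    (Q : ∀ g : G, (t * (g * t * g⁻¹)) ^ 2 = 1 ∨ (t * (g * t * g⁻¹)) ^ 3 = 1)
    (hd1 : ∃ g : G, d1 = g * t * g⁻¹) (hd2 : ∃ g : G, d2 = g * t * g⁻¹)
    (hd1b : d1 * b = b * d1) (hd2b : d2 * b = b * d2) (hd12 : d1 * d2 = d2 * d1)
    (ht2 : t * t = 1) (ht1 : t ≠ 1)
    (hwit : ∃ g : G, ((d1 * d2) * (g * (d1 * d2) * g⁻¹)) ^ 2 ≠ 1 ∧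
      ((d1 * d2) * (g * (d1 * d2) * g⁻¹)) ^ 3 ≠ 1)
    (K : ∀ g : G, (∀ W, tst b t W ↔ tst b (g * t * g⁻¹) W) →
      ∃ (a : ℕ) (e : G), (e = 1 ∨ e = d1 ∨ e = d2 ∨ e = d1 * d2) ∧
        g * t * g⁻¹ = (b ^ a * e) * t * (b ^ a * e)⁻¹)
    (α : MulAut G) : ∃ u : G, ∀ x, α x = u * x * u⁻¹ := by
  have sq : ∀ d : G, (∃ g : G, d = g * t * g⁻¹) → d * d = 1 := by
    rintro d ⟨g, rfl⟩
    calc g * t * g⁻¹ * (g * t * g⁻¹) = g * (t * t) * g⁻¹ := by group
      _ = 1 := by rw [ht2]; group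
  have hd1s := sq d1 hd1
  have hd2s := sq d2 hd2
  have he : ∀ e : G, (e = 1 ∨ e = d1 ∨ e = d2 ∨ e = d1 * d2) → e * b = b * e ∧ e * e = 1 := by
    rintro e (rfl | rfl | rfl | rfl)
    · simp
    · exact ⟨hd1b, hd1s⟩
    · exact ⟨hd2b, hd2s⟩
    · constructor
      · rw [mul_assoc, hd2b, ← mul_assoc, hd1b, mul_assoc]
      · calc d1 * d2 * (d1 * d2) = d1 * (d2 * d1) * d2 := by group
          _ = d1 * (d1 * d2) * d2 := by rw [hd12]
          _ = (d1 * d1) * (d2 * d2) := by group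
          _ = 1 := by rw [hd1s, hd2s, one_mul]
  have hu : ∀ (a : ℕ) (e : G), e * b = b * e → (b ^ a * e) * b = b * (b ^ a * e) := by
    intro a e h
    rw [mul_assoc, h, ← mul_assoc, ← mul_assoc, ← pow_succ, ← pow_succ']
  refine inner_of_setup p b t d1 hb hp2 hgen H1 Q hd1 hd1b ht2 ht1 ?_ ?_ α
  · intro i hib hi2 hi1
    have hcb : (MulAut.conj i) b = b := by
      rw [MulAut.conj_apply, hib]; group
    obtain ⟨a, e, hE, hK⟩ := K i (fun W => by
      have := tst_map (MulAut.conj i) b t W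
      rwa [hcb, MulAut.conj_apply] at this)
    obtain ⟨heb, he2⟩ := he e hE
    have hub := hu a e heb
    set u := b ^ a * e with hudef
    have hz : u⁻¹ * i = 1 := by
      apply hZ
      apply comm_all_of_gen hgen
      · calc b * (u⁻¹ * i) = u⁻¹ * (u * b) * u⁻¹ * i := by group
          _ = u⁻¹ * (b * u) * u⁻¹ * i := by rw [hub]
          _ = u⁻¹ * (b * i) := by group
          _ = u⁻¹ * (i * b) := by rw [hib]
          _ = u⁻¹ * i * b := by group
      · calc t * (u⁻¹ * i) = u⁻¹ * (u * t * u⁻¹) * i := by group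
          _ = u⁻¹ * (i * t * i⁻¹) * i := by rw [hK]
          _ = u⁻¹ * i * t := by group
    have hiu : i = u := (inv_mul_eq_one.1 hz).symm
    have hcomm : Commute (b ^ a) e := (Commute.pow_left (show Commute b e from heb.symm) a)
    have h2a : b ^ (2 * a) = 1 := by
      have h3 : u * u = 1 := by rw [← hiu]; exact hi2
      have h4 : u * u = b ^ a * b ^ a * (e * e) := by
        rw [hudef]
        calc b ^ a * e * (b ^ a * e) = b ^ a * (e * b ^ a) * e := by group
          _ = b ^ a * (b ^ a * e) * e := by rw [hcomm.eq]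
          _ = b ^ a * b ^ a * (e * e) := by group
      rw [h4, he2, mul_one, ← pow_add] at h3
      rw [two_mul]; exact h3
    have hpa : p ∣ a := by
      have h5 : p ∣ 2 * a := by rw [← hb]; exact orderOf_dvd_of_pow_eq_one h2a
      rcases (Fact.out : p.Prime).dvd_mul.1 h5 with h6 | h6
      · exact absurd ((Nat.prime_dvd_prime_iff_eq Fact.out Nat.prime_two).1 h6) hpodd
      · exact h6
    have hba : b ^ a = 1 := by rw [← hb] at hpa; exact orderOf_dvd_iff_pow_eq_one.1 hpa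
    have hie : i = e := by rw [hiu, hudef, hba, one_mul]
    rcases hE with h | h | h | h
    · exact absurd (hie.trans h) hi1
    · left; rw [hie, h]; exact hd1
    · left; rw [hie, h]; exact hd2
    · right; rw [hie, h]; exact hwit
  · rintro t' ⟨g, rfl⟩ hW
    obtain ⟨a, e, hE, hK⟩ := K g hW
    obtain ⟨heb, -⟩ := he e hE
    refine ⟨b ^ a * e, ?_, hK.symm⟩
    rw [hu a e heb]; group

/-- the powers of `b` are conjugate, if `x0` acts on `⟨b⟩` as a primitive root -/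
theorem H1_of_primroot {b x0 : G} {p r : ℕ} (hb : orderOf b = p) (hx : x0 * b * x0⁻¹ = b ^ r)
    (hr : ∀ m, 0 < m → m < p → ∃ j, r ^ j % p = m) :
    ∀ m, 0 < m → m < p → ∃ x : G, x * b ^ m * x⁻¹ = b := by
  have key : ∀ j : ℕ, x0 ^ j * b * (x0 ^ j)⁻¹ = b ^ (r ^ j) := by
    intro j
    induction j with
    | zero => simp
    | succ j ih =>
      calc x0 ^ (j + 1) * b * (x0 ^ (j + 1))⁻¹ = x0 * (x0 ^ j * b * (x0 ^ j)⁻¹) * x0⁻¹ := by
            rw [pow_succ']; group
        _ = x0 * b ^ (r ^ j) * x0⁻¹ := by rw [ih]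
        _ = (x0 * b * x0⁻¹) ^ (r ^ j) := (conj_pow).symm
        _ = b ^ (r ^ (j + 1)) := by rw [hx, ← pow_mul, pow_succ']
  intro m h0 h1
  obtain ⟨j, hj⟩ := hr m h0 h1
  refine ⟨(x0 ^ j)⁻¹, ?_⟩
  have e : b ^ m = b ^ (r ^ j) := by rw [← pow_mod_orderOf b (r ^ j), hb, hj]
  rw [e, ← key j]; group

/-- the word of a letter -/
def selw (bw tw : List ℕ) : ℕ → List ℕ
  | 0 => bw
  | 1 => bw.reverse
  | _ => tw

/-- the word of `ev` -/
def evw (bw tw : List ℕ) : List ℕ → List ℕ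
  | [] => []
  | c :: W => evw bw tw W ++ selw bw tw c

end Cfsg.Agent.Lib.Helper40.OutT
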