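/-
helper40: automorphisms fixing an element `b` of prime order; groups with `|Out| = 2`.
-/
import Cfsg.Agent.Lib.Helper40.OutTransp2

set_option autoImplicit false

namespace Cfsg.Agent.Lib.Helper40.OutT

variable {G : Type*} [Group G]

/-- an automorphism which fixes `b` is inner -/
theorem inner_of_fix [Finite G] (p : ℕ) [Fact p.Prime] (hpodd : p ≠ 2) (b t d1 : G)
    (hb : orderOf b = p) (hgen : Subgroup.closure {b, t} = ⊤)
    (hZ : ∀ z : G, (∀ g, g * z = z * g) → z = 1)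
    (Q : ∀ g : G, (t * (g * t * g⁻¹)) ^ 2 = 1 ∨ (t * (g * t * g⁻¹)) ^ 3 = 1)
    (hd1 : ∃ g : G, d1 = g * t * g⁻¹) (hd1b : d1 * b = b * d1) (ht2 : t * t = 1) (ht1 : t ≠ 1)
    (E : G → Prop) (hEb : ∀ e, E e → e * b = b * e) (hE2 : ∀ e, E e → e * e = 1)
    (hE : ∀ e, E e → e = 1 ∨ (∃ g : G, e = g * t * g⁻¹) ∨
      ∃ g : G, (e * (g * e * g⁻¹)) ^ 2 ≠ 1 ∧ (e * (g * e * g⁻¹)) ^ 3 ≠ 1)
    (K : ∀ g : G, (∀ W, tst b t W ↔ tst b (g * t * g⁻¹) W) →
      ∃ (a : ℕ) (e : G), E e ∧ g * t * g⁻¹ = (b ^ a * e) * t * (b ^ a * e)⁻¹)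
    (β : MulAut G) (hβb : β b = b) : ∃ u : G, ∀ x, β x = u * x * u⁻¹ := by
  have hu : ∀ (a : ℕ) (e : G), e * b = b * e → (b ^ a * e) * b = b * (b ^ a * e) := by
    intro a e h
    rw [mul_assoc, h, ← mul_assoc, ← mul_assoc, ← pow_succ, ← pow_succ']
  have hinvC : ∀ i : G, i * b = b * i → i * i = 1 → i ≠ 1 → (∃ g : G, i = g * t * g⁻¹) ∨
      ∃ g : G, (i * (g * i * g⁻¹)) ^ 2 ≠ 1 ∧ (i * (g * i * g⁻¹)) ^ 3 ≠ 1 := by
    intro i hib hi2 hi1
    have hcb : (MulAut.conj i) b = b := by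
      rw [MulAut.conj_apply, hib]; group
    obtain ⟨a, e, hEe, hK⟩ := K i (fun W => by
      have := tst_map (MulAut.conj i) b t W
      rwa [hcb, MulAut.conj_apply] at this)
    have heb := hEb e hEe
    have he2 := hE2 e hEe
    have hub := hu a e heb
    set u := b ^ a * e with hudef
    have hz : u⁻¹ * i = 1 := by
      apply hZ
      apply comm_all_of_gen hgen
      · calc b * (u⁻¹ * i) = u⁻¹ * (u * b) * u⁻¹ * i := by group
          _ = u⁻¹ * (b * u) * u⁻¹ * i := by rw [hub]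
          _ = u⁻¹ * (b * i) := by group
          _ = u⁻¹ * (i * b) := by rw [hib]
          _ = u⁻¹ * i * b := by group
      · calc t * (u⁻¹ * i) = u⁻¹ * (u * t * u⁻¹) * i := by group
          _ = u⁻¹ * (i * t * i⁻¹) * i := by rw [hK]
          _ = u⁻¹ * i * t := by group
    have hiu : i = u := (inv_mul_eq_one.1 hz).symm
    have hcomm : Commute (b ^ a) e := (Commute.pow_left (show Commute b e from heb.symm) a)
    have h2a : b ^ (2 * a) = 1 := by
      have h3 : u * u = 1 := by rw [← hiu]; exact hi2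
      have h4 : u * u = b ^ a * b ^ a * (e * e) := by
        rw [hudef]
        calc b ^ a * e * (b ^ a * e) = b ^ a * (e * b ^ a) * e := by group
          _ = b ^ a * (b ^ a * e) * e := by rw [hcomm.eq]
          _ = b ^ a * b ^ a * (e * e) := by group
      rw [h4, he2, mul_one, ← pow_add] at h3
      rw [two_mul]; exact h3
    have hpa : p ∣ a := by
      have h5 : p ∣ 2 * a := by rw [← hb]; exact orderOf_dvd_of_pow_eq_one h2a
      rcases (Fact.out : p.Prime).dvd_mul.1 h5 with h6 | h6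
      · exact absurd ((Nat.prime_dvd_prime_iff_eq Fact.out Nat.prime_two).1 h6) hpodd
      · exact h6
    have hba : b ^ a = 1 := by rw [← hb] at hpa; exact orderOf_dvd_iff_pow_eq_one.1 hpa
    have hie : i = e := by rw [hiu, hudef, hba, one_mul]
    rcases hE e hEe with h | h | h
    · exact absurd (hie.trans h) hi1
    · left; rw [hie]; exact h
    · right; rw [hie]; exact h
  have H2 : ∀ t' : G, (∃ g : G, t' = g * t * g⁻¹) → (∀ W, tst b t W ↔ tst b t' W) →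
      ∃ u : G, u * b * u⁻¹ = b ∧ u * t * u⁻¹ = t' := by
    rintro t' ⟨g, rfl⟩ hW
    obtain ⟨a, e, hEe, hK⟩ := K g hW
    refine ⟨b ^ a * e, ?_, hK.symm⟩
    rw [hu a e (hEb e hEe)]; group
  obtain ⟨g0, hg0⟩ := hd1
  have hd1sq : d1 * d1 = 1 := by
    rw [hg0]
    calc g0 * t * g0⁻¹ * (g0 * t * g0⁻¹) = g0 * (t * t) * g0⁻¹ := by group
      _ = 1 := by rw [ht2]; group
  have hd1ne : d1 ≠ 1 := by
    intro h
    apply ht1
    calc t = g0⁻¹ * (g0 * t * g0⁻¹) * g0 := by group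
      _ = 1 := by rw [← hg0, h]; group
  have Qd : ∀ g : G, (d1 * (g * d1 * g⁻¹)) ^ 2 = 1 ∨ (d1 * (g * d1 * g⁻¹)) ^ 3 = 1 := by
    intro g
    have e : d1 * (g * d1 * g⁻¹) = g0 * (t * ((g0⁻¹ * g * g0) * t * (g0⁻¹ * g * g0)⁻¹)) * g0⁻¹ := by
      rw [hg0]; group
    rw [e, conj_pow, conj_pow]
    rcases Q (g0⁻¹ * g * g0) with h | h
    · left; rw [h]; group
    · right; rw [h]; group
  have h1 : ∃ g : G, β d1 = g * t * g⁻¹ := by
    rcases hinvC (β d1) (by
        have := congrArg β hd1b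
        rwa [map_mul, map_mul, hβb] at this)
      (by rw [← map_mul, hd1sq, map_one]) (fun h => hd1ne (β.injective (by rw [h, map_one]))) with
      h | ⟨g, h2, h3⟩
    · exact h
    · exfalso
      obtain ⟨g', rfl⟩ := β.surjective g
      have e : β d1 * (β g' * β d1 * (β g')⁻¹) = β (d1 * (g' * d1 * g'⁻¹)) := by simp
      rw [e, ← map_pow] at h2 h3
      rcases Qd g' with h | h
      · exact h2 (by rw [h, map_one])
      · exact h3 (by rw [h, map_one])
  obtain ⟨g1, hg1⟩ := h1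
  have h2 : ∃ g : G, β t = g * t * g⁻¹ := by
    refine ⟨(β g0)⁻¹ * g1, ?_⟩
    have e : t = g0⁻¹ * d1 * g0 := by rw [hg0]; group
    calc β t = (β g0)⁻¹ * β d1 * β g0 := by conv_lhs => rw [e]; simp
      _ = (β g0)⁻¹ * g1 * t * ((β g0)⁻¹ * g1)⁻¹ := by rw [hg1]; group
  obtain ⟨u, hub, hut⟩ := H2 (β t) h2 (fun W => by
    have := tst_map β b t W
    rwa [hβb] at this)
  have : β.toMonoidHom = (MulAut.conj u).toMonoidHom := by
    apply MonoidHom.eq_of_eqOn_dense hgen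
    rintro g (rfl | hg)
    · exact hβb.trans hub.symm
    · rw [Set.mem_singleton_iff.1 hg]; exact hut.symm
  exact ⟨u, fun g => DFunLike.congr_fun this g⟩

theorem mem_inn_iff {α : MulAut G} :
    α ∈ (MulAut.conj : G →* MulAut G).range ↔ ∃ u : G, ∀ x, α x = u * x * u⁻¹ := by
  constructor
  · rintro ⟨u, rfl⟩; exact ⟨u, fun x => rfl⟩
  · rintro ⟨u, hu⟩; exact ⟨u, MulEquiv.ext fun x => (hu x).symm⟩

/-- the outer automorphism group has order two -/
theorem out_two [Finite G] (p : ℕ) [Fact p.Prime] (b : G) (hb : orderOf b = p)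
    (hp2 : ¬ p ^ 2 ∣ Nat.card G) (σ : MulAut G) (x0 v : G) (r n : ℕ)
    (hx : x0 * b * x0⁻¹ = b ^ r) (hv : v * σ b * v⁻¹ = b ^ n)
    (hr : ∀ m, 0 < m → m < p → (∃ j, r ^ j % p = m) ∨ (∃ j, r ^ j % p = (n * m) % p))
    (hfix : ∀ β : MulAut G, β b = b → ∃ u : G, ∀ x, β x = u * x * u⁻¹)
    (hσ : ¬ ∃ u : G, ∀ x, σ x = u * x * u⁻¹) :
    ((MulAut.conj : G →* MulAut G).range).index = 2 := by
  have hN : ((MulAut.conj : G →* MulAut G).range).Normal := by
    refine ⟨?_⟩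
    rintro _ ⟨u, rfl⟩ α
    refine ⟨α u, ?_⟩
    ext x
    simp
  have key : ∀ j : ℕ, x0 ^ j * b * (x0 ^ j)⁻¹ = b ^ (r ^ j) := by
    intro j
    induction j with
    | zero => simp
    | succ j ih =>
      calc x0 ^ (j + 1) * b * (x0 ^ (j + 1))⁻¹ = x0 * (x0 ^ j * b * (x0 ^ j)⁻¹) * x0⁻¹ := by
            rw [pow_succ']; group
        _ = x0 * b ^ (r ^ j) * x0⁻¹ := by rw [ih]
        _ = (x0 * b * x0⁻¹) ^ (r ^ j) := (conj_pow).symm
        _ = b ^ (r ^ (j + 1)) := by rw [hx, ← pow_mul, pow_succ']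
  have dich : ∀ α : MulAut G, α ∈ (MulAut.conj : G →* MulAut G).range ∨
      σ * α ∈ (MulAut.conj : G →* MulAut G).range := by
    intro α
    obtain ⟨k, m, hm0, hmp, hk⟩ := exists_conj_pow hp2 (x := α b) (y := b)
      (by rw [MulEquiv.orderOf_eq, hb]) hb
    rcases hr m hm0 hmp with ⟨j, hj⟩ | ⟨j, hj⟩
    · left
      have e : b ^ m = b ^ (r ^ j) := by rw [← pow_mod_orderOf b (r ^ j), hb, hj]
      have h1 : (MulAut.conj ((x0 ^ j)⁻¹ * k) * α) b = b := by
        rw [MulAut.mul_apply, MulAut.conj_apply]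
        calc (x0 ^ j)⁻¹ * k * α b * ((x0 ^ j)⁻¹ * k)⁻¹ = (x0 ^ j)⁻¹ * (k * α b * k⁻¹) * x0 ^ j := by
              group
          _ = b := by rw [hk, e, ← key j]; group
      have h2 := mem_inn_iff.2 (hfix _ h1)
      have h3 := Subgroup.mul_mem _ (Subgroup.inv_mem _
        (MonoidHom.mem_range.2 ⟨(x0 ^ j)⁻¹ * k, rfl⟩ :
          MulAut.conj ((x0 ^ j)⁻¹ * k) ∈ (MulAut.conj : G →* MulAut G).range)) h2
      rwa [inv_mul_cancel_left] at h3
    · right
      have e : b ^ (n * m) = b ^ (r ^ j) := by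
        rw [← pow_mod_orderOf b (r ^ j), ← pow_mod_orderOf b (n * m), hb, hj]
      have h1 : (MulAut.conj ((x0 ^ j)⁻¹ * v * σ k) * (σ * α)) b = b := by
        rw [MulAut.mul_apply, MulAut.mul_apply, MulAut.conj_apply]
        have e2 : σ k * σ (α b) * (σ k)⁻¹ = (σ b) ^ m := by
          rw [← map_inv, ← map_mul, ← map_mul, hk, map_pow]
        calc (x0 ^ j)⁻¹ * v * σ k * σ (α b) * ((x0 ^ j)⁻¹ * v * σ k)⁻¹
            = (x0 ^ j)⁻¹ * (v * (σ k * σ (α b) * (σ k)⁻¹) * v⁻¹) * x0 ^ j := by group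
          _ = (x0 ^ j)⁻¹ * (v * σ b * v⁻¹) ^ m * x0 ^ j := by rw [e2, conj_pow]
          _ = b := by rw [hv, ← pow_mul, e, ← key j]; group
      have h2 := mem_inn_iff.2 (hfix _ h1)
      have h3 := Subgroup.mul_mem _ (Subgroup.inv_mem _
        (MonoidHom.mem_range.2 ⟨(x0 ^ j)⁻¹ * v * σ k, rfl⟩ :
          MulAut.conj ((x0 ^ j)⁻¹ * v * σ k) ∈ (MulAut.conj : G →* MulAut G).range)) h2
      rwa [inv_mul_cancel_left] at h3
  have hσ' : σ ∉ (MulAut.conj : G →* MulAut G).range := fun h => hσ (mem_inn_iff.1 h)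
  rw [Subgroup.index_eq_two_iff]
  refine ⟨σ, fun α => ?_⟩
  by_cases hα : α ∈ (MulAut.conj : G →* MulAut G).range
  · right
    refine ⟨hα, fun h => hσ' ?_⟩
    have := Subgroup.mul_mem _ (Subgroup.inv_mem _ hα) h
    rwa [inv_mul_cancel_left] at this
  · left
    refine ⟨?_, hα⟩
    rcases dich α with h | h
    · exact absurd h hα
    · have := hN.conj_mem _ h α
      have e : α * (σ * α) * α⁻¹ = α * σ := by group
      rwa [e] at this

end Cfsg.Agent.Lib.Helper40.OutT
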