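/-
helper40: a faster way of checking that a packed table is a permutation representation of a
Coxeter-like presentation: the Coxeter relators are checked with few row fetches, the long relators
`τ` which commute with a short word `γ` are only checked at one point of every cycle of `γ`.
-/
import Cfsg.Agent.Lib.Helper40.PresAct

set_option autoImplicit false

namespace Cfsg.Agent.Lib.Helper40.PE

/-- n-th element of a list, kernel friendly -/
noncomputable def nth (l : List ℕ) : ℕ → ℕ :=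
  List.rec (motive := fun _ => ℕ → ℕ) (fun _ => 0)
    (fun a _ ih i => Nat.rec a (fun m _ => ih m) i) l

theorem nth_cons_zero (a : ℕ) (l : List ℕ) : nth (a :: l) 0 = a := rfl
theorem nth_cons_succ (a : ℕ) (l : List ℕ) (i : ℕ) : nth (a :: l) (i + 1) = nth l i := rfl

theorem nth_map (f : ℕ → ℕ) : ∀ (ks : List ℕ) (i : ℕ) (hi : i < ks.length),
    nth (ks.map f) i = f (ks[i])
  | [], i, hi => absurd hi (by simp)
  | k :: ks, 0, _ => rfl
  | k :: ks, i + 1, hi => by
      rw [List.map_cons, nth_cons_succ, nth_map f ks i (by simpa using hi)]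
      rfl

theorem nth_map_range (f : ℕ → ℕ) (A i : ℕ) (hi : i < A) : nth ((List.range A).map f) i = f i := by
  rw [nth_map f _ i (by simpa using hi)]
  simp

/-- a permutation `τ` commuting with `γ` is trivial if it fixes a point of every cycle of `γ` -/
theorem eq_one_of_pos {γ τ : Equiv.Perm ℕ} (hc : τ * γ = γ * τ) (N : ℕ) (pos : ℕ → ℕ)
    (hγ : ∀ x < N, γ x < N) (hout : ∀ x, ¬ x < N → τ x = x)
    (h : ∀ x < N, pos (γ x) < pos x ∨ τ x = x) : τ = 1 := by
  have key : ∀ n x, pos x = n → x < N → τ x = x := by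
    intro n
    induction n using Nat.strong_induction_on with
    | _ n ih =>
      intro x hn hx
      rcases h x hx with h1 | h1
      · have h2 := ih (pos (γ x)) (hn ▸ h1) (γ x) rfl (hγ x hx)
        have h3 : τ (γ x) = γ (τ x) := by
          have := congrArg (fun g : Equiv.Perm ℕ => g x) hc
          simpa using this
        rw [h3] at h2
        exact γ.injective h2
      · exact h1
  ext x
  by_cases hx : x < N
  · exact key _ x rfl hx
  · exact hout x hx

theorem sq_of_comm {G : Type*} [Group G] {a b : G} (ha : a * a = 1) (hb : b * b = 1)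
    (h : a * b = b * a) : (a * b) ^ 2 = 1 := by
  rw [sq, mul_assoc, ← mul_assoc b a b, ← h, mul_assoc a b b, hb, mul_one, ha]

theorem cube_of_braid {G : Type*} [Group G] {a b : G} (ha : a * a = 1) (hb : b * b = 1)
    (h : a * b * a = b * a * b) : (a * b) ^ 3 = 1 := by
  have e : (a * b) ^ 3 = (a * b * a) * (b * a * b) := by
    simp only [pow_succ, pow_zero, one_mul, mul_assoc]
  rw [e, ← h]
  calc a * b * a * (a * b * a) = a * b * (a * a) * b * a := by simp only [mul_assoc]
    _ = 1 := by rw [ha, mul_one, mul_assoc a b b, hb, mul_one, ha]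

theorem commute_wp {G : Type*} [Group G] {s : ℕ → G} {a : G} (w : List ℕ)
    (h : ∀ k ∈ w, a * s k = s k * a) : a * wp s w = wp s w * a := by
  induction w with
  | nil => simp
  | cons k w ih =>
    rw [wp_cons, ← mul_assoc, h k (by simp), mul_assoc, ih (fun k' hk' => h k' (by simp [hk'])),
      mul_assoc]

namespace PTab

variable (p : PTab) (g : ℕ → ℕ)

/-- entry `k` of a row -/
noncomputable def ext (r k : ℕ) : ℕ := Nat.land (Nat.shiftRight r (Nat.mul p.tb k)) p.mT

theorem pe_eq (x k : ℕ) : p.pe x k = p.ext (p.T.get x) k := rfl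

/-- walking with the rows given by `g` -/
noncomputable def walkG (w : List ℕ) : ℕ → ℕ :=
  List.rec (motive := fun _ => ℕ → ℕ) (fun u => u) (fun k _ ih u => force (p.ext (g u) k) ih) w

theorem walkG_nil (x : ℕ) : p.walkG g [] x = x := rfl

theorem walkG_cons (k : ℕ) (w : List ℕ) (x : ℕ) :
    p.walkG g (k :: w) x = p.walkG g w (p.ext (g x) k) := by
  have : p.walkG g (k :: w) x = force (p.ext (g x) k) (p.walkG g w) := rfl
  rw [this, force_eq]

theorem walk_cons (k : ℕ) (w : List ℕ) (x : ℕ) : p.walk (k :: w) x = p.walk w (p.pe x k) := by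
  have : p.walk (k :: w) x = force (p.pe x k) (p.walk w) := rfl
  rw [this, force_eq]

/-- collect the rows of the images, under the letters in `ks`, of the point with row `r` -/
noncomputable def gather (r : ℕ) (ks : List ℕ) : (List ℕ → Bool) → Bool :=
  List.rec (motive := fun _ => (List ℕ → Bool) → Bool) (fun K => K [])
    (fun k _ ih K => force (g (p.ext r k)) fun rk => ih (fun l => K (rk :: l))) ks

theorem gather_eq (r : ℕ) (ks : List ℕ) (K : List ℕ → Bool) :
    p.gather g r ks K = K (ks.map fun k => g (p.ext r k)) := by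
  induction ks generalizing K with
  | nil => rfl
  | cons k ks ih =>
    have : p.gather g r (k :: ks) K
        = force (g (p.ext r k)) fun rk => p.gather g r ks (fun l => K (rk :: l)) := rfl
    rw [this, force_eq, ih]
    rfl

/-- the Coxeter checks at the point `x`: `CP` commuting pairs, `BP` braid pairs -/
noncomputable def coxOK (ks : List ℕ) (CP BP : List (ℕ × ℕ)) (x : ℕ) : Bool :=
  force (g x) fun r =>
    andB (force (p.T.get x) fun r' => allB (fun k => Nat.beq (p.ext r k) (p.ext r' k)) p.A)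
    (andB (allB (fun k => ltB (p.ext r k) p.N) p.A)
      (p.gather g r ks fun l =>
        andB (allB (fun k => Nat.beq (p.ext (nth l k) k) x) p.A)
          (andB (allL (fun ij => Nat.beq (p.ext (nth l ij.1) ij.2) (p.ext (nth l ij.2) ij.1)) CP)
            (allL (fun ij => Nat.beq (p.ext (g (p.ext (nth l ij.1) ij.2)) ij.1)
              (p.ext (g (p.ext (nth l ij.2) ij.1)) ij.2)) BP))))

theorem coxOK_spec {ks : List ℕ} (hks : ks = List.range p.A) {CP BP : List (ℕ × ℕ)}
    (hCP : ∀ ij ∈ CP, ij.1 < p.A ∧ ij.2 < p.A) (hBP : ∀ ij ∈ BP, ij.1 < p.A ∧ ij.2 < p.A)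
    {x : ℕ} (h : p.coxOK g ks CP BP x = true) :
    (∀ k < p.A, p.ext (g x) k = p.pe x k) ∧
    (∀ k < p.A, p.ext (g x) k < p.N) ∧ (∀ k < p.A, p.ext (g (p.ext (g x) k)) k = x) ∧
    (∀ ij ∈ CP, p.ext (g (p.ext (g x) ij.1)) ij.2 = p.ext (g (p.ext (g x) ij.2)) ij.1) ∧
    (∀ ij ∈ BP, p.ext (g (p.ext (g (p.ext (g x) ij.1)) ij.2)) ij.1
      = p.ext (g (p.ext (g (p.ext (g x) ij.2)) ij.1)) ij.2) := by
  rw [coxOK, force_eq, andB_iff, force_eq, andB_iff, gather_eq, andB_iff, andB_iff, allB_iff,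
    allB_iff, allB_iff, allL_iff, allL_iff, hks] at h
  obtain ⟨h0, h1, h2, h3, h4⟩ := h
  have hn : ∀ i < p.A, nth ((List.range p.A).map fun k => g (p.ext (g x) k)) i
      = g (p.ext (g x) i) := fun i hi => nth_map_range _ _ i hi
  refine ⟨fun k hk => beq_iff'.mp (h0 k hk), fun k hk => ltB_iff.mp (h1 k hk), ?_, ?_, ?_⟩
  · intro k hk
    have := beq_iff'.mp (h2 k hk)
    rw [hn k hk] at this
    exact this
  · intro ij hij
    have := beq_iff'.mp (h3 ij hij)
    rw [hn _ (hCP ij hij).1, hn _ (hCP ij hij).2] at this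
    exact this
  · intro ij hij
    have := beq_iff'.mp (h4 ij hij)
    rw [hn _ (hBP ij hij).1, hn _ (hBP ij hij).2] at this
    exact this

/-- the facts given by the Coxeter checks at all points -/
theorem coxOK_all {ks : List ℕ} (hks : ks = List.range p.A) {CP BP : List (ℕ × ℕ)}
    (hCP : ∀ ij ∈ CP, ij.1 < p.A ∧ ij.2 < p.A) (hBP : ∀ ij ∈ BP, ij.1 < p.A ∧ ij.2 < p.A)
    (h : ∀ x < p.N, p.coxOK g ks CP BP x = true) :
    (∀ x < p.N, ∀ k < p.A, p.ext (g x) k = p.pe x k) ∧
    (∀ x < p.N, ∀ k < p.A, p.pe x k < p.N) ∧ (∀ x < p.N, ∀ k < p.A, p.pe (p.pe x k) k = x) ∧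
    (∀ ij ∈ CP, ∀ x < p.N, p.pe (p.pe x ij.1) ij.2 = p.pe (p.pe x ij.2) ij.1) ∧
    (∀ ij ∈ BP, ∀ x < p.N, p.pe (p.pe (p.pe x ij.1) ij.2) ij.1
      = p.pe (p.pe (p.pe x ij.2) ij.1) ij.2) := by
  have hs := fun x hx => p.coxOK_spec g hks hCP hBP (h x hx)
  have hE : ∀ x < p.N, ∀ k < p.A, p.ext (g x) k = p.pe x k := fun x hx => (hs x hx).1
  have hb : ∀ x < p.N, ∀ k < p.A, p.pe x k < p.N := by
    intro x hx k hk
    rw [← hE x hx k hk]; exact (hs x hx).2.1 k hk
  refine ⟨hE, hb, ?_, ?_, ?_⟩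
  · intro x hx k hk
    have := (hs x hx).2.2.1 k hk
    rwa [hE x hx k hk, hE _ (hb x hx k hk) k hk] at this
  · intro ij hij x hx
    obtain ⟨hi, hj⟩ := hCP ij hij
    have := (hs x hx).2.2.2.1 ij hij
    rwa [hE x hx _ hi, hE x hx _ hj, hE _ (hb x hx _ hi) _ hj, hE _ (hb x hx _ hj) _ hi] at this
  · intro ij hij x hx
    obtain ⟨hi, hj⟩ := hBP ij hij
    have := (hs x hx).2.2.2.2 ij hij
    rwa [hE x hx _ hi, hE x hx _ hj, hE _ (hb x hx _ hi) _ hj, hE _ (hb x hx _ hj) _ hi,
      hE _ (hb _ (hb x hx _ hi) _ hj) _ hi, hE _ (hb _ (hb x hx _ hj) _ hi) _ hj] at this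

theorem walkG_eq (hE : ∀ x < p.N, ∀ k < p.A, p.ext (g x) k = p.pe x k)
    (hb : ∀ x < p.N, ∀ k < p.A, p.pe x k < p.N) (w : List ℕ) (hw : ∀ k ∈ w, k < p.A) (x : ℕ)
    (hx : x < p.N) : p.walkG g w x = p.walk w x := by
  induction w generalizing x with
  | nil => rfl
  | cons k w ih =>
    have hk : k < p.A := hw k (by simp)
    rw [walkG_cons, walk_cons, hE x hx k hk]
    exact ih (fun k' hk' => hw k' (by simp [hk'])) _ (hb x hx k hk)

/-- the check of a long relator `R` at `x`: either `R` fixes `x` or the short word `w` decreases the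
position -/
noncomputable def longOK (pos : ℕ → ℕ) (w R : List ℕ) (x : ℕ) : Bool :=
  force (p.walkG g w x) fun y => orB (ltB (pos y) (pos x)) (Nat.beq (p.walkG g R x) x)

theorem longOK_spec {pos : ℕ → ℕ} {w R : List ℕ} {x : ℕ} (h : p.longOK g pos w R x = true) :
    pos (p.walkG g w x) < pos x ∨ p.walkG g R x = x := by
  rw [longOK, force_eq, orB_iff, ltB_iff, beq_iff'] at h
  exact h

/-- the squares of the letters -/
def sqB (A : ℕ) : List (List ℕ) := (List.range A).map fun k => [k, k]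

variable {p} {g}

theorem good_sq (hb : ∀ x < p.N, ∀ k < p.A, p.pe x k < p.N)
    (hinv : ∀ x < p.N, ∀ k < p.A, p.pe (p.pe x k) k = x) : p.Good (sqB p.A) where
  ok := by
    intro x hx
    rw [ptOK, andB_iff, allB_iff, allL_iff]
    refine ⟨fun k hk => ltB_iff.mpr (hb x hx k hk), ?_⟩
    intro b hb'
    simp only [sqB, List.mem_map, List.mem_range] at hb'
    obtain ⟨k, hk, rfl⟩ := hb'
    rw [beq_iff', walk_eq]
    exact hinv x hx k hk
  letters := by
    intro b hb' k hk
    simp only [sqB, List.mem_map, List.mem_range] at hb'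
    obtain ⟨k', hk', rfl⟩ := hb'
    simp only [List.mem_cons, List.not_mem_nil, or_false, or_self] at hk
    rw [hk]; exact hk'
  kk := by
    intro k hk
    simp only [sqB, List.mem_map, List.mem_range]
    exact ⟨k, hk, rfl⟩

theorem sig_of_lt {B : List (List ℕ)} (h : p.Good B) {k x : ℕ} (hk : k < p.A) (hx : x < p.N) :
    sig h k x = p.pe x k := by
  rw [sig_apply, fn, if_pos ⟨hx, hk⟩]

theorem sig_of_ge {B : List (List ℕ)} (h : p.Good B) {k x : ℕ} (hx : ¬ x < p.N) :
    sig h k x = x := by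
  rw [sig_apply, fn, if_neg (fun h' => hx h'.1)]

theorem sig_lt {B : List (List ℕ)} (h : p.Good B) (k : ℕ) {x : ℕ} (hx : x < p.N) :
    sig h k x < p.N := fn_lt h.ok k x hx

/-- the action of the reversed word is the walk -/
theorem wp_rev_apply {B : List (List ℕ)} (h : p.Good B) (w : List ℕ) (hw : ∀ k ∈ w, k < p.A)
    {x : ℕ} (hx : x < p.N) : wp (sig h) w.reverse x = p.walk w x := by
  rw [wp_sig_apply, appL_fn h.ok w hw x hx]

theorem wp_rev_apply_ge {B : List (List ℕ)} (h : p.Good B) (w : List ℕ)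
    {x : ℕ} (hx : ¬ x < p.N) : wp (sig h) w.reverse x = x := by
  rw [wp_sig_apply, appL_fn_ge w x hx]

theorem wp_rev_lt {B : List (List ℕ)} (h : p.Good B) (w : List ℕ)
    {x : ℕ} (hx : x < p.N) : wp (sig h) w.reverse x < p.N := by
  rw [wp_sig_apply]; exact appL_fn_lt h.ok w x hx

/-- commuting letters -/
theorem sig_comm {B : List (List ℕ)} (h : p.Good B) {i j : ℕ} (hi : i < p.A) (hj : j < p.A)
    (hc : ∀ x < p.N, p.pe (p.pe x i) j = p.pe (p.pe x j) i) :
    sig h i * sig h j = sig h j * sig h i := by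
  ext x
  simp only [Equiv.Perm.mul_apply]
  by_cases hx : x < p.N
  · rw [sig_of_lt h hj hx, sig_of_lt h hi hx]
    have h1 : p.pe x j < p.N := by rw [← sig_of_lt h hj hx]; exact sig_lt h j hx
    have h2 : p.pe x i < p.N := by rw [← sig_of_lt h hi hx]; exact sig_lt h i hx
    rw [sig_of_lt h hi h1, sig_of_lt h hj h2, hc x hx]
  · rw [sig_of_ge h hx, sig_of_ge h hx, sig_of_ge h hx]

/-- braided letters -/
theorem sig_braid {B : List (List ℕ)} (h : p.Good B) {i j : ℕ} (hi : i < p.A) (hj : j < p.A)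
    (hc : ∀ x < p.N, p.pe (p.pe (p.pe x i) j) i = p.pe (p.pe (p.pe x j) i) j) :
    sig h i * sig h j * sig h i = sig h j * sig h i * sig h j := by
  ext x
  simp only [Equiv.Perm.mul_apply]
  by_cases hx : x < p.N
  · rw [sig_of_lt h hj hx, sig_of_lt h hi hx]
    have h1 : p.pe x j < p.N := by rw [← sig_of_lt h hj hx]; exact sig_lt h j hx
    have h2 : p.pe x i < p.N := by rw [← sig_of_lt h hi hx]; exact sig_lt h i hx
    rw [sig_of_lt h hi h1, sig_of_lt h hj h2]
    have h3 : p.pe (p.pe x j) i < p.N := by rw [← sig_of_lt h hi h1]; exact sig_lt h i h1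
    have h4 : p.pe (p.pe x i) j < p.N := by rw [← sig_of_lt h hj h2]; exact sig_lt h j h2
    rw [sig_of_lt h hj h3, sig_of_lt h hi h4, hc x hx]
  · simp only [sig_of_ge h hx]

/-- a long relator holds -/
theorem wp_long {B : List (List ℕ)} (h : p.Good B) {pos : ℕ → ℕ} {w R : List ℕ}
    (hE : ∀ x < p.N, ∀ k < p.A, p.ext (g x) k = p.pe x k)
    (hb : ∀ x < p.N, ∀ k < p.A, p.pe x k < p.N)
    (hw : ∀ k ∈ w, k < p.A) (hR : ∀ k ∈ R, k < p.A)
    (hc : wp (sig h) R * wp (sig h) w = wp (sig h) w * wp (sig h) R)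
    (hl : ∀ x < p.N, p.longOK g pos w R x = true) : wp (sig h) R = 1 := by
  have hinv := sig_invol h
  have h1 : wp (sig h) R.reverse = 1 := by
    apply eq_one_of_pos (γ := wp (sig h) w.reverse) _ p.N pos
      (fun x hx => wp_rev_lt h w hx) (fun x hx => wp_rev_apply_ge h R hx)
    · intro x hx
      rw [wp_rev_apply h w hw hx, wp_rev_apply h R hR hx, ← p.walkG_eq g hE hb w hw x hx,
        ← p.walkG_eq g hE hb R hR x hx]
      exact p.longOK_spec g (hl x hx)
    · rw [wp_reverse _ hinv, wp_reverse _ hinv, ← mul_inv_rev, ← mul_inv_rev, hc]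
  rw [wp_reverse _ hinv] at h1
  exact inv_eq_one.mp h1

/-- from relators in the permutation group back to the pointwise check -/
theorem good_of_wp {B0 B : List (List ℕ)} (h : p.Good B0) (hlet : ∀ b ∈ B, ∀ k ∈ b, k < p.A)
    (hkk : ∀ k < p.A, [k, k] ∈ B) (hB : ∀ b ∈ B, wp (sig h) b = 1) : p.Good B where
  ok := by
    intro x hx
    have h0 := h.ok x hx
    rw [ptOK, andB_iff] at h0
    rw [ptOK, andB_iff, allL_iff]
    refine ⟨h0.1, ?_⟩
    intro b hb
    rw [beq_iff', ← wp_rev_apply h b (hlet b hb) hx, wp_reverse _ (sig_invol h), hB b hb]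
    rfl
  letters := hlet
  kk := hkk

end PTab

end Cfsg.Agent.Lib.Helper40.PE
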