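/-
helper40: the tests of `OutTransp` evaluated on a packed permutation table.
-/
import Cfsg.Agent.Lib.Helper40.OutTransp
import Cfsg.Agent.Lib.Helper40.PresOrder
import Cfsg.Agent.Lib.Helper40.PresFast

set_option autoImplicit false

namespace Cfsg.Agent.Lib.Helper40.PE

noncomputable def anyL {α : Type} (q : α → Bool) (l : List α) : Bool :=
  List.rec (motive := fun _ => Bool) false (fun a _ ih => Bool.rec ih true (q a)) l

theorem anyL_iff {α : Type} {q : α → Bool} {l : List α} : anyL q l = true ↔ ∃ a ∈ l, q a = true := by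
  induction l with
  | nil => simp [anyL]
  | cons a l ih =>
    have : anyL q (a :: l) = Bool.rec (anyL q l) true (q a) := rfl
    rw [this]
    cases h : q a
    · simp [h, ih]
    · simp [h]

noncomputable def eqB (a b : Bool) : Bool := Bool.rec (Bool.rec true false b) b a

theorem eqB_iff {a b : Bool} : eqB a b = true ↔ a = b := by
  cases a <;> cases b <;> simp [eqB]

/-- the palindromic word of a conjugate of the letter `r` -/
def Tw (r : ℕ) (c : List ℕ) : List ℕ := c ++ r :: c.reverse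

theorem Tw_reverse (r : ℕ) (c : List ℕ) : (Tw r c).reverse = Tw r c := by
  simp [Tw]

theorem wp_Tw {Γ : Type*} [Group Γ] {s : ℕ → Γ} (hinv : ∀ k, s k * s k = 1) (r : ℕ) (c : List ℕ) :
    wp s (Tw r c) = wp s c * s r * (wp s c)⁻¹ := by
  rw [Tw, wp_append, wp_cons, wp_reverse _ hinv, mul_assoc]

theorem Tw_letters {r A : ℕ} {c : List ℕ} (hr : r < A) (hc : ∀ k ∈ c, k < A) :
    ∀ k ∈ Tw r c, k < A := by
  intro k hk
  simp only [Tw, List.mem_append, List.mem_cons, List.mem_reverse] at hk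
  rcases hk with hk | rfl | hk
  · exact hc k hk
  · exact hr
  · exact hc k hk

namespace PTab

variable (p : PTab)

/-- the word of a letter of `OutT.ev` -/
noncomputable def sel (bwr bw tw : List ℕ) (c : ℕ) : List ℕ :=
  Nat.rec bwr (fun n _ => Nat.rec bw (fun _ _ => tw) n) c

/-- the action of a word in `b`, `b⁻¹`, `t` -/
noncomputable def wev (bwr bw tw : List ℕ) (W : List ℕ) : ℕ → ℕ :=
  List.rec (motive := fun _ => ℕ → ℕ) (fun x => x)
    (fun c _ ih x => force (p.walk (sel bwr bw tw c) x) ih) W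

theorem wev_cons (bwr bw tw : List ℕ) (c : ℕ) (W : List ℕ) (x : ℕ) :
    p.wev bwr bw tw (c :: W) x = p.wev bwr bw tw W (p.walk (sel bwr bw tw c) x) := by
  have : p.wev bwr bw tw (c :: W) x
      = force (p.walk (sel bwr bw tw c) x) (p.wev bwr bw tw W) := rfl
  rw [this, force_eq]

/-- the test -/
noncomputable def tstB (bwr bw tw : List ℕ) (y : ℕ) (W : List ℕ) : Bool :=
  force (p.wev bwr bw tw W y) fun z => Nat.beq (p.walk tw z) z

/-- a path to `p0`, following the letters given by `lt` -/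
noncomputable def pathK (lt : ℕ → ℕ) (p0 : ℕ) (fuel : ℕ) : ℕ → (List ℕ → Bool) → Bool :=
  Nat.rec (motive := fun _ => ℕ → (List ℕ → Bool) → Bool) (fun _ _ => false)
    (fun _ ih y K => bsel (Nat.beq y p0) (K [])
      (force (lt y) fun k => force (p.pe y k) fun y2 => ih y2 (fun l => K (k :: l)))) fuel

theorem pathK_spec (lt : ℕ → ℕ) (p0 : ℕ) (fuel : ℕ) : ∀ (y : ℕ) (K : List ℕ → Bool),
    p.pathK lt p0 fuel y K = true → ∃ l, K l = true := by
  induction fuel with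
  | zero => intro y K h; exact absurd h (by simp [pathK])
  | succ n ih =>
    intro y K h
    have e : p.pathK lt p0 (n + 1) y K = bsel (Nat.beq y p0) (K [])
      (force (lt y) fun k => force (p.pe y k) fun y2 => p.pathK lt p0 n y2 (fun l => K (k :: l))) :=
      rfl
    rw [e] at h
    cases hb : Nat.beq y p0
    · rw [hb, bsel_false, force_eq, force_eq] at h
      obtain ⟨l, hl⟩ := ih _ _ h
      exact ⟨_, hl⟩
    · rw [hb, bsel_true] at h
      exact ⟨[], h⟩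

/-- the check of a candidate `y` -/
noncomputable def candOK (lt : ℕ → ℕ) (p0 r fuel : ℕ) (bwr bw : List ℕ)
    (Ws : List (List ℕ × Bool)) (SV : List ℕ) (y : ℕ) : Bool :=
  p.pathK lt p0 fuel y fun c =>
    andB (Nat.beq (p.walk c y) p0) (andB (allL (fun k => ltB k p.A) c)
      (bsel (allL (fun Wb => eqB (p.tstB bwr bw (Tw r c) y Wb.1) Wb.2) Ws)
        (anyL (fun a => Nat.beq a y) SV) true))

theorem candOK_spec {lt : ℕ → ℕ} {p0 r fuel : ℕ} {bwr bw : List ℕ}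
    {Ws : List (List ℕ × Bool)} {SV : List ℕ} {y : ℕ}
    (h : p.candOK lt p0 r fuel bwr bw Ws SV y = true) :
    ∃ c, p.walk c y = p0 ∧ (∀ k ∈ c, k < p.A) ∧
      ((∀ Wb ∈ Ws, p.tstB bwr bw (Tw r c) y Wb.1 = Wb.2) → y ∈ SV) := by
  obtain ⟨c, hc⟩ := p.pathK_spec _ _ _ _ _ h
  rw [andB_iff, andB_iff, beq_iff', allL_iff] at hc
  obtain ⟨h1, h2, h3⟩ := hc
  refine ⟨c, h1, fun k hk => ltB_iff.mp (h2 k hk), fun ht => ?_⟩
  have h4 : allL (fun Wb => eqB (p.tstB bwr bw (Tw r c) y Wb.1) Wb.2) Ws = true :=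
    allL_iff.mpr fun Wb hWb => eqB_iff.mpr (ht Wb hWb)
  rw [h4, bsel_true, anyL_iff] at h3
  obtain ⟨a, ha, hay⟩ := h3
  rw [← beq_iff'.mp hay]; exact ha

variable {p} {B : List (List ℕ)} {Γ : Type*} [Group Γ] {s : ℕ → Γ} {ρ : Γ →* Equiv.Perm ℕ}

/-- the hypotheses on the point `p0` and the letter `r` -/
structure Pt (ρ : Γ →* Equiv.Perm ℕ) (t0 : Γ) (p0 : ℕ) : Prop where
  stab : ∀ g : Γ, ρ g p0 = p0 ↔ g * t0 = t0 * g

theorem Pt.fix_iff {t0 : Γ} {p0 : ℕ} (hP : Pt ρ t0 p0) (w g : Γ) :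
    ρ w (ρ g p0) = ρ g p0 ↔ w * (g * t0 * g⁻¹) = (g * t0 * g⁻¹) * w := by
  have e1 : ρ w (ρ g p0) = ρ g p0 ↔ ρ (g⁻¹ * w * g) p0 = p0 := by
    rw [map_mul, map_mul, Equiv.Perm.mul_apply, Equiv.Perm.mul_apply, map_inv]
    constructor
    · intro h; rw [h]; exact (ρ g).symm_apply_apply p0
    · intro h
      have h2 := congrArg (ρ g) h
      have h3 : (ρ g) ((ρ g)⁻¹ ((ρ w) ((ρ g) p0))) = (ρ w) ((ρ g) p0) :=
        (ρ g).apply_symm_apply _
      rwa [h3] at h2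
  rw [e1, hP.stab]
  constructor
  · intro h
    calc w * (g * t0 * g⁻¹) = g * (g⁻¹ * w * g * t0) * g⁻¹ := by group
      _ = g * (t0 * (g⁻¹ * w * g)) * g⁻¹ := by rw [h]
      _ = (g * t0 * g⁻¹) * w := by group
  · intro h
    calc g⁻¹ * w * g * t0 = g⁻¹ * (w * (g * t0 * g⁻¹)) * g := by group
      _ = g⁻¹ * ((g * t0 * g⁻¹) * w) * g := by rw [h]
      _ = t0 * (g⁻¹ * w * g) := by group

theorem Pt.conj_eq {t0 : Γ} {p0 : ℕ} (hP : Pt ρ t0 p0) {g g' : Γ} (h : ρ g p0 = ρ g' p0) :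
    g * t0 * g⁻¹ = g' * t0 * g'⁻¹ := by
  have h1 : ρ (g'⁻¹ * g) p0 = p0 := by
    rw [map_mul, Equiv.Perm.mul_apply, h, map_inv]; exact (ρ g').symm_apply_apply p0
  have h2 := (hP.stab _).mp h1
  calc g * t0 * g⁻¹ = g' * (g'⁻¹ * g * t0) * g⁻¹ := by group
    _ = g' * (t0 * (g'⁻¹ * g)) * g⁻¹ := by rw [h2]
    _ = g' * t0 * g'⁻¹ := by group

theorem Pt.conj {t0 : Γ} {p0 : ℕ} (hP : Pt ρ t0 p0) (a : Γ) : Pt ρ (a * t0 * a⁻¹) (ρ a p0) :=
  ⟨fun g => hP.fix_iff g a⟩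

section

variable (h : p.Good B) (hρ : ∀ k < p.A, ρ (s k) = sig h k) (hinv : ∀ k, s k * s k = 1)
  (htop : pre s p.A = ⊤)

include hρ hinv htop

/-- the action of `ev` is given by `wev` -/
theorem rho_ev {bw tw : List ℕ} (hbw : ∀ k ∈ bw, k < p.A) (htw : ∀ k ∈ tw, k < p.A)
    (hpal : tw.reverse = tw) (W : List ℕ) : ∀ x < p.N,
    ρ (OutT.ev (wp s bw) (wp s tw) W) x = p.wev bw.reverse bw tw W x := by
  induction W with
  | nil => intro x _; simp [OutT.ev]; rfl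
  | cons c W ih =>
    intro x hx
    have hv : ρ (OutT.val (wp s bw) (wp s tw) c) x = p.walk (sel bw.reverse bw tw c) x := by
      match c with
      | 0 => exact rho_wp_apply h hρ bw hbw x hx
      | 1 =>
        have e : OutT.val (wp s bw) (wp s tw) 1 = wp s bw.reverse := (wp_reverse _ hinv bw).symm
        rw [e, rho_wp_apply h hρ bw.reverse (fun k hk => hbw k (List.mem_reverse.mp hk)) x hx,
          List.reverse_reverse]
        rfl
      | n + 2 =>
        have e : OutT.val (wp s bw) (wp s tw) (n + 2) = wp s tw := rfl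
        rw [e, rho_wp_apply h hρ tw htw x hx, hpal]
        rfl
    rw [OutT.ev, map_mul, Equiv.Perm.mul_apply, wev_cons, ← hv]
    exact ih _ (rho_lt h hρ htop _ x hx)

/-- the boolean test decides `OutT.tst` -/
theorem tst_iff {r p0 : ℕ} (hP : Pt ρ (s r) p0) (hr : r < p.A) (hp0 : p0 < p.N) {bw c : List ℕ}
    (hbw : ∀ k ∈ bw, k < p.A) (hc : ∀ k ∈ c, k < p.A) (W : List ℕ) :
    OutT.tst (wp s bw) (wp s (Tw r c)) W ↔
      p.tstB bw.reverse bw (Tw r c) (ρ (wp s c) p0) W = true := by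
  have htw := Tw_letters hr hc
  have hy : ρ (wp s c) p0 < p.N := rho_lt h hρ htop _ p0 hp0
  rw [tstB, force_eq, beq_iff', ← rho_ev h hρ hinv htop hbw htw (Tw_reverse r c) W _ hy]
  set E := OutT.ev (wp s bw) (wp s (Tw r c)) W with hE
  have hz : ρ E (ρ (wp s c) p0) < p.N := rho_lt h hρ htop _ _ hy
  have e1 : p.walk (Tw r c) (ρ E (ρ (wp s c) p0)) = ρ (wp s (Tw r c)) (ρ E (ρ (wp s c) p0)) := by
    rw [rho_wp_apply h hρ _ htw _ hz, Tw_reverse]
  rw [e1]
  have e2 : ρ E (ρ (wp s c) p0) = ρ (E * wp s c) p0 := by rw [map_mul, Equiv.Perm.mul_apply]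
  rw [e2, hP.fix_iff, OutT.tst, ← hE, wp_Tw hinv]
  have e3 : E * wp s c * s r * (E * wp s c)⁻¹ = E * (wp s c * s r * (wp s c)⁻¹) * E⁻¹ := by group
  rw [e3]

/-- candidates which pass the tests are in the list -/
theorem cand_mem {r p0 fuel : ℕ} (hP : Pt ρ (s r) p0) (hr : r < p.A) (hp0 : p0 < p.N)
    {lt : ℕ → ℕ} {bw cy : List ℕ} (hbw : ∀ k ∈ bw, k < p.A) (hcy : ∀ k ∈ cy, k < p.A)
    {Ws : List (List ℕ × Bool)} {SV : List ℕ}
    (htrue : ∀ Wb ∈ Ws, p.tstB bw.reverse bw (Tw r cy) (ρ (wp s cy) p0) Wb.1 = Wb.2)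
    (hall : ∀ y < p.N, p.candOK lt p0 r fuel bw.reverse bw Ws SV y = true)
    (g : Γ) (hg : ∀ W, OutT.tst (wp s bw) (wp s (Tw r cy)) W ↔
      OutT.tst (wp s bw) (g * s r * g⁻¹) W) : ρ g p0 ∈ SV := by
  have hy : ρ g p0 < p.N := rho_lt h hρ htop _ p0 hp0
  obtain ⟨c, h1, h2, h3⟩ := p.candOK_spec (hall _ hy)
  have h4 : ρ (wp s c) p0 = ρ g p0 := by
    have e := rho_wp_apply h hρ c.reverse (fun k hk => h2 k (List.mem_reverse.mp hk)) _ hy
    rw [List.reverse_reverse, h1, wp_reverse _ hinv, map_inv] at e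
    calc ρ (wp s c) p0 = ρ (wp s c) ((ρ (wp s c))⁻¹ (ρ g p0)) := by rw [e]
      _ = ρ g p0 := (ρ (wp s c)).apply_symm_apply _
  have h5 : g * s r * g⁻¹ = wp s (Tw r c) := by
    rw [wp_Tw hinv]; exact hP.conj_eq h4.symm
  apply h3
  intro Wb hWb
  have t1 := tst_iff h hρ hinv htop hP hr hp0 hbw hcy Wb.1
  have t2 := tst_iff h hρ hinv htop hP hr hp0 hbw h2 Wb.1
  rw [htrue Wb hWb] at t1
  rw [h4, ← h5, ← hg Wb.1, t1] at t2
  cases hb : Wb.2
  · rw [hb] at t2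
    cases hq : p.tstB bw.reverse bw (Tw r c) (ρ g p0) Wb.1
    · rfl
    · exact absurd (t2.mpr hq) (by simp)
  · rw [hb] at t2
    exact t2.mp rfl

end

end PTab

end Cfsg.Agent.Lib.Helper40.PE
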